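import Cfsg.Agent.Lib.MonsterFischer.Defs

/-!
Numeric facts about the fixed classes.
-/

set_option autoImplicit false
set_option maxRecDepth 100000
set_option maxHeartbeats 4000000
set_option Elab.async false

namespace Cfsg.Lib.MonsterFischer

open Cfsg Cfsg.Lib.Concrete
open Cfsg.Lib.MonsterSeven (eqMod2 gensList)

theorem basFix_check : ∀ i : Fin 12, eqMod2 (fun p => basV i (sigma.symm p)) (basV i) = true := by
  decide +kernel

/-- A class is told from zero by an inner product with a generator. -/
def nonzeroB (c : ℕ) : Bool := c == 0 || gensList.any fun g => !(dotL (combV c) g % 16 == 0)

theorem nonzero_part0 : (List.range' 0 512).all nonzeroB = true := by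
  decide +kernel

theorem nonzero_part1 : (List.range' 512 512).all nonzeroB = true := by
  decide +kernel

theorem nonzero_part2 : (List.range' 1024 512).all nonzeroB = true := by
  decide +kernel

theorem nonzero_part3 : (List.range' 1536 512).all nonzeroB = true := by
  decide +kernel

theorem nonzero_part4 : (List.range' 2048 512).all nonzeroB = true := by
  decide +kernel

theorem nonzero_part5 : (List.range' 2560 512).all nonzeroB = true := by
  decide +kernel

theorem nonzero_part6 : (List.range' 3072 512).all nonzeroB = true := by
  decide +kernel

theorem nonzero_part7 : (List.range' 3584 512).all nonzeroB = true := by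
  decide +kernel

theorem range_parts : List.range 4096 = List.range' 0 512 ++ List.range' 512 512 ++ List.range' 1024 512 ++
    List.range' 1536 512 ++ List.range' 2048 512 ++ List.range' 2560 512 ++ List.range' 3072 512 ++
    List.range' 3584 512 := by
  decide +kernel

theorem nonzero_check : (List.range 4096).all (fun c => c == 0 ||
    gensList.any fun g => !(dotL (combV c) g % 16 == 0)) = true := by
  show (List.range 4096).all nonzeroB = true
  simp only [range_parts, List.all_append, nonzero_part0, nonzero_part1, nonzero_part2, nonzero_part3, nonzero_part4, nonzero_part5, nonzero_part6, nonzero_part7, Bool.and_self]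

theorem short_check : shortCodes.length = 378 ∧ (List.range 378).all (fun j =>
    eqMod2 (combV (shortCodes.getD j 0)) (shortV j) && inLeech (shortV j) && decide (normL (shortV j) = 32)) = true := by
  decide +kernel

theorem mask_check : (List.range 4096).all (fun c => !(shortMask.testBit c) || shortCodes.contains c) = true := by
  decide +kernel

theorem six_part0 : ((List.range' 0 512).filter sixB).length = 213 := by
  decide +kernel

theorem six_part1 : ((List.range' 512 512).filter sixB).length = 208 := by
  decide +kernel

theorem six_part2 : ((List.range' 1024 512).filter sixB).length = 208 := by
  decide +kernel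

theorem six_part3 : ((List.range' 1536 512).filter sixB).length = 208 := by
  decide +kernel

theorem six_part4 : ((List.range' 2048 512).filter sixB).length = 224 := by
  decide +kernel

theorem six_part5 : ((List.range' 2560 512).filter sixB).length = 192 := by
  decide +kernel

theorem six_part6 : ((List.range' 3072 512).filter sixB).length = 224 := by
  decide +kernel

theorem six_part7 : ((List.range' 3584 512).filter sixB).length = 224 := by
  decide +kernel

theorem six_count : ((List.range 4096).filter sixB).length = 1701 := by
  simp only [range_parts, List.filter_append, List.length_append, six_part0, six_part1, six_part2, six_part3, six_part4, six_part5, six_part6, six_part7]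

theorem trace_check : (List.range 37).all (fun j =>
    decide (traceCodes.getD j 0 < 4096) &&
      eqMod2 (traceV (gensList.getD j Concrete.oddBase)) (combV (traceCodes.getD j 0))) = true ∧
    gensList.length = 37 := by
  decide +kernel

theorem fixCodes_check : fixCodes.length = 64 ∧ codeList.all (fun m =>
    !(bits24.all fun i => m.testBit (pget (sPow 1) i) == m.testBit i) || fixCodes.contains m) = true := by
  decide +kernel

theorem pow_check : sigPows.length = 3 ∧ sPow 0 = pId ∧
    ((List.range 2).all fun k => prodCheck (sPow 1) (sPow k) (sPow (k + 1))) = true ∧
    prodCheck (sPow 1) (sPow 2) pId = true := by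
  decide +kernel

end Cfsg.Lib.MonsterFischer
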