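import Cfsg.Agent.Lib.MonsterFischer.Defs
import Cfsg.Agent.Lib.SUSixU43.ModelCheck

/-!
Numeric facts about the four centralizing maps and the 112 sets of classes.
-/

set_option autoImplicit false
set_option maxRecDepth 100000
set_option maxHeartbeats 4000000
set_option Elab.async false

namespace Cfsg.Lib.MonsterFischer

open Cfsg Cfsg.Lib.Concrete
open Cfsg.Lib.MonsterSeven (eqMod2)

theorem gen_ok0 : matOk (genMat 0) = true := by decide +kernel

theorem gen_ok1 : matOk (genMat 1) = true := by decide +kernel

theorem gen_ok2 : matOk (genMat 2) = true := by decide +kernel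

theorem gen_ok3 : matOk (genMat 3) = true := by decide +kernel

theorem gen_comm : ∀ k : Fin 4, ∀ i j : Fin 24,
    matEntry (genMat k) (gidx (sigma (gpt i))) (gidx (sigma (gpt j))) = matEntry (genMat k) i j := by
  decide +kernel

theorem gen_image : ∀ k : Fin 4, ∀ i : Fin 12,
    imgCode k i < 4096 ∧
    eqMod2 (matFun (genMat k) (combV (2 ^ (i : ℕ)))) (combV (imgCode k i)) = true := by
  decide +kernel

/-- The number of the image of a set under one of the first three maps. -/
def frmImg (k i : ℕ) : ℕ := bif Nat.beq k 2 then i else Cfsg.Lib.PermAut.ent 7 (Cfsg.Lib.SUSixU43.genP k) i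

theorem gen_frame : ∀ k : Fin 3, ∀ i : Fin 112,
    (frm i).all (fun c => (frm (frmImg k i)).contains (linCode k c)) = true := by
  decide +kernel

theorem frame_check : (List.range 112).all (fun i => (frm i).length == 18 && decide (frm i).Nodup &&
    (frm i).all (fun c => decide (c < 4096)) &&
    (List.range 112).all fun j => i == j || !((frm j).contains ((frm i).headD 0))) = true := by
  decide +kernel

theorem w_comm : ∀ k : Fin 3, ∀ i : Fin 12,
    linCode k (linCode 2 (2 ^ (i : ℕ))) = linCode 2 (linCode k (2 ^ (i : ℕ))) := by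
  decide +kernel

theorem w_moves : linCode 2 1 ≠ 1 ∧ linCode 2 (linCode 2 1) ≠ 1 ∧ noncommIdx < 12 ∧
    linCode 3 (linCode 2 (2 ^ noncommIdx)) ≠ linCode 2 (linCode 3 (2 ^ noncommIdx)) := by
  decide +kernel

theorem code_lt : ∀ k : Fin 4, ∀ i : Fin 12, linCode k (2 ^ (i : ℕ)) = imgCode k i := by
  decide +kernel

end Cfsg.Lib.MonsterFischer
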