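import Cfsg.Agent.Lib.MonsterFischer.Fixed
import Cfsg.Agent.Lib.MonsterThree.Count
import Cfsg.Agent.Lib.MonsterThree.Classes
import Cfsg.Agent.Lib.Concrete.LeechSimpleGroups

/-!
At most 1080 permutations of the Mathieu group centralize the permutation of order three fixing six points.
-/

set_option autoImplicit false
set_option maxRecDepth 100000
set_option Elab.async false

namespace Cfsg.Lib.MonsterFischer

open Cfsg Cfsg.Lib.Concrete
open Cfsg.Lib.MonsterSeven (rep_apply')
open Cfsg.Lib.MonsterThree (ptOf gidx_ptOf exists_perm_packed)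
open scoped Pointwise

/-- The permutation, in the Mathieu group. -/
def sM : M24 := ⟨sigma, sigma_mem⟩

/-- The centralizer in the Mathieu group. -/
abbrev cenP : Subgroup M24 := Subgroup.centralizer ({sM} : Set M24)

theorem cenP_apply (g : cenP) (p : GolayPt) : g.1.1 (sigma p) = sigma (g.1.1 p) :=
  congrArg (fun h : M24 => h.1 p) (Subgroup.mem_centralizer_singleton_iff.1 g.2)

/-- The six fixed points. -/
def sixF : Finset GolayPt := Finset.univ.filter fun p => sigma p = p

theorem sixF_facts : sixF.card = 6 ∧ octList.all (fun o => !(sixPts.all fun i => o.testBit i)) = true ∧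
    sixPts.all (fun i => decide (i < 24) && decide (sigma (ptOf i) = ptOf i)) = true := by
  decide +kernel

theorem swap_check : prodCheck (swapPerm.getD 0 0) (swapPerm.getD 1 0) pId = true ∧
    prodCheck (swapPerm.getD 1 0) (swapPerm.getD 0 0) pId = true ∧
    (bits24.all fun i => decide (pget (swapPerm.getD 0 0) i < 24) && decide (pget (swapPerm.getD 1 0) i < 24)) = true ∧
    basisMasks.all (fun b => isCode (pimg (swapPerm.getD 0 0) b) &&
      decide (pimg (swapPerm.getD 0 0) b < 16777216)) = true ∧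
    bits24.all (fun i => !(pget (sPow 1) i == i) || (pget (sPow 1) (pget (swapPerm.getD 0 0) i) ==
      pget (swapPerm.getD 0 0) i)) = true ∧
    swapWitness < 24 ∧
    pget (swapPerm.getD 0 0) (pget (sPow 1) swapWitness) ≠ pget (sPow 1) (pget (swapPerm.getD 0 0) swapWitness) := by
  decide +kernel

theorem not_inOctad : ¬ InOctad sixF := by
  rintro ⟨o, ho, hsub⟩
  obtain ⟨m, hm, rfl⟩ := mem_octads_iff.1 ho
  have t := List.all_eq_true.1 sixF_facts.2.1 m hm
  simp only [Bool.not_eq_true', ← Bool.not_eq_true, List.all_eq_true] at t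
  refine t fun i hi => ?_
  have h := List.all_eq_true.1 sixF_facts.2.2 i hi
  simp only [Bool.and_eq_true, decide_eq_true_eq] at h
  have := hsub (Finset.mem_filter.2 ⟨Finset.mem_univ _, h.2⟩ : ptOf i ∈ sixF)
  rwa [mem_mset, gidx_ptOf h.1] at this

theorem mem_sixF {p : GolayPt} : p ∈ sixF ↔ sigma p = p := by simp [sixF]

theorem fixSet_sixF : Concrete.fixSet sixF = Subgroup.zpowers sigma := by
  haveI : Fact (Nat.Prime 3) := ⟨Nat.prime_three⟩
  refine (Subgroup.eq_of_le_of_card_ge (Subgroup.zpowers_le.2 ?_) ?_).symm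
  · exact mem_fixSet.2 ⟨sigma_mem, fun a ha => mem_sixF.1 ha⟩
  · rw [(card_fixSet_six sixF_facts.1).2 not_inOctad, Nat.card_zpowers, orderOf_eq_prime sigma_pow_three]
    intro h
    have : sigma (gpt (Fin.ofNat 24 swapWitness)) ≠ gpt (Fin.ofNat 24 swapWitness) := by decide +kernel
    exact this (by rw [h]; rfl)

/-- The action on the six fixed points. -/
def onSix : cenP →* Equiv.Perm {p : GolayPt // sigma p = p} :=
  MonoidHom.mk' (fun g => g.1.1.subtypePerm fun p =>
    ⟨fun h => g.1.1.injective (by rw [cenP_apply, h]), fun h => by rw [← cenP_apply, h]⟩) fun _ _ => rfl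

theorem card_cenP : Nat.card cenP ≤ 1080 := by
  classical
  haveI : Finite M24 := Nat.finite_of_card_ne_zero (by rw [card_M24]; norm_num)
  have hk : Nat.card onSix.ker ≤ 3 := by
    rw [← (card_fixSet_six sixF_facts.1).2 not_inOctad]
    refine Nat.card_le_card_of_injective (fun g => (⟨g.1.1.1, mem_fixSet.2 ⟨g.1.1.2, fun a ha => ?_⟩⟩ :
      Concrete.fixSet sixF)) fun g h e => Subtype.ext (Subtype.ext (Subtype.ext
        (congrArg (fun k : Concrete.fixSet sixF => (k : Equiv.Perm GolayPt)) e)))
    have := congrArg (fun π : Equiv.Perm {p : GolayPt // sigma p = p} => (π ⟨a, mem_sixF.1 ha⟩ : GolayPt))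
      (MonoidHom.mem_ker.1 g.2)
    exact this
  obtain ⟨p1, p2, p3, p4, p5, p6, p7⟩ := swap_check
  obtain ⟨g0, hg0, -⟩ := exists_perm_packed p1 p2 p3
  have hg0m : g0 ∈ M24 := rep_mem_M24 hg0 p4
  have hmaps : ∀ p, sigma p = p → sigma (g0 p) = g0 p := by
    intro p hp
    refine gidx_injective (Fin.ext ?_)
    rw [rep_sigma, hg0]
    have t := List.all_eq_true.1 p5 _ (mem_bits24.2 (gidx p).isLt)
    have hp' : pget (sPow 1) (gidx p).val = (gidx p).val := by rw [← rep_sigma p, hp]
    simpa [hp'] using t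
  have hnot : onSix.range ≠ ⊤ := by
    intro htop
    have hsur : Function.Surjective onSix := MonoidHom.range_eq_top.1 htop
    let π : Equiv.Perm {p : GolayPt // sigma p = p} :=
      Equiv.ofBijective (fun p => ⟨g0 p.1, hmaps p.1 p.2⟩) (Finite.injective_iff_bijective.1 fun a b e =>
        Subtype.ext (g0.injective (congrArg Subtype.val e)))
    obtain ⟨g, hg⟩ := hsur π
    have hfix : g.1.1⁻¹ * g0 ∈ Concrete.fixSet sixF := by
      refine mem_fixSet.2 ⟨mul_mem (inv_mem g.1.2) hg0m, fun a ha => ?_⟩
      have h1 : g.1.1 a = g0 a := congrArg (fun τ : Equiv.Perm {p : GolayPt // sigma p = p} =>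
        (τ ⟨a, mem_sixF.1 ha⟩ : GolayPt)) hg
      rw [Equiv.Perm.mul_apply, ← h1]
      exact g.1.1.symm_apply_apply a
    rw [fixSet_sixF] at hfix
    obtain ⟨i, hi⟩ := Subgroup.mem_zpowers_iff.1 hfix
    have hc : Commute g.1.1 sigma := Equiv.ext (cenP_apply g)
    have hg0c : Commute g0 sigma := by
      rw [show g0 = g.1.1 * sigma ^ i by rw [hi, mul_inv_cancel_left]]
      exact hc.mul_left ((Commute.refl sigma).zpow_left i)
    refine p7 ?_
    have h := congrArg (fun τ : Equiv.Perm GolayPt => (gidx (τ (gpt (Fin.ofNat 24 swapWitness)))).val) hg0c.eq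
    simp only [Equiv.Perm.mul_apply] at h
    rw [hg0, rep_sigma, rep_sigma, hg0, gidx_gpt] at h
    simpa [Fin.ofNat, Nat.mod_eq_of_lt p6] using h
  have h720 : Nat.card (Equiv.Perm {p : GolayPt // sigma p = p}) = 720 := by
    rw [Nat.card_perm, Nat.card_eq_fintype_card, Fintype.card_subtype]
    rw [show (Finset.univ.filter fun p => sigma p = p).card = 6 from sixF_facts.1]
    rfl
  have hr : Nat.card onSix.range ≤ 360 := by
    have h := Subgroup.card_mul_index onSix.range
    rw [h720] at h
    have h2 : 2 ≤ onSix.range.index := by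
      have : onSix.range.index ≠ 1 := fun e => hnot (Subgroup.index_eq_one.1 e)
      have := Subgroup.index_ne_zero_of_finite (H := onSix.range)
      omega
    nlinarith
  have h := Subgroup.card_mul_index onSix.ker
  rw [Subgroup.index_ker] at h
  calc Nat.card cenP = Nat.card onSix.ker * Nat.card onSix.range := h.symm
    _ ≤ 3 * 360 := Nat.mul_le_mul hk hr
    _ = 1080 := rfl

end Cfsg.Lib.MonsterFischer
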