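import Cfsg.Agent.Lib.MonsterSeven.Defs
import Cfsg.Agent.Lib.MonsterFischer.Data

/-!
The permutation of order three fixing six points, twelve spanning vectors of its fixed classes, and the tests used on
them.
-/

set_option autoImplicit false

namespace Cfsg.Lib.MonsterFischer

open Cfsg Cfsg.Lib.Concrete Cfsg.Lib.MonsterLocal
open Cfsg.Lib.MonsterSeven (listFun vecP eqMod2)

/-- The permutation of order three. -/
def sigma : Equiv.Perm GolayPt where
  toFun := listFun sigL
  invFun := listFun sigInvL
  left_inv := by decide +kernel
  right_inv := by decide +kernel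

/-- The packed powers. -/
def sPow (k : ℕ) : ℕ := sigPows.getD k 0

theorem rep_sigma : Concrete.Rep sigma (sPow 1) := by unfold Concrete.Rep; decide +kernel

theorem sigma_mem : sigma ∈ M24 := rep_mem_M24 rep_sigma (by decide +kernel)

/-- The automorphism of order three. -/
noncomputable def f0 : Co0 := permHom ⟨sigma, sigma_mem⟩

/-- The spanning vectors. -/
def basV (i : Fin 12) : GolayPt → ℤ := vecP (basL.getD i.val 0)

theorem basV_mem : ∀ i : Fin 12, inLeech (basV i) = true := by decide +kernel

/-- The spanning vectors, in the lattice. -/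
def bas (i : Fin 12) : leechLattice := ⟨basV i, mem_leech_of_inLeech (basV_mem i)⟩

/-- The sum selected by the bits of `c`. -/
def combV (c : ℕ) (p : GolayPt) : ℤ :=
  (List.finRange 12).foldr (fun i a => (bif c.testBit i.val then basV i p else 0) + a) 0

/-- The inner product on the coordinates. -/
def dotL (x y : GolayPt → ℤ) : ℤ :=
  bits24.foldr (fun i a => x (gpt (Fin.ofNat 24 i)) * y (gpt (Fin.ofNat 24 i)) + a) 0

/-- The squared length on the coordinates. -/
def normL (x : GolayPt → ℤ) : ℤ := dotL x x

/-- A fixed vector of norm 32. -/
def shortV (j : ℕ) : GolayPt → ℤ := vecP (shortVecs.getD j 0)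

/-- The trace of a vector. -/
def traceV (x : GolayPt → ℤ) (p : GolayPt) : ℤ :=
  ((List.range 3).map fun k => x (gpt (Fin.ofNat 24 (pget (sPow k) (gidx p).val)))).sum

/-- A centralizing map. -/
def genMat (k : ℕ) : List (List ℤ) := genMats.getD k []

/-- The image of a spanning class. -/
def imgCode (k i : ℕ) : ℕ := (genImgs.getD k []).getD i 0

/-- The xor-linear extension of the listed images. -/
def linCode (k c : ℕ) : ℕ :=
  (List.range 12).foldr (fun i a => bif c.testBit i then Nat.xor (imgCode k i) a else a) 0

/-- A set of eighteen classes. -/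
def frm (i : ℕ) : List ℕ := frameL.getD i []

/-- The classes that may have a vector of norm 64. -/
def sixB (c : ℕ) : Bool :=
  !(c == 0) && (normL (combV c) % 32 == 0) && !(shortMask.testBit c)

end Cfsg.Lib.MonsterFischer
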