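import Cfsg.Agent.Lib.MonsterFischer.Place
import Cfsg.Agent.Lib.MonsterLocal.Setting

/-!
The element of order three is a commutator in its centralizer and is inverted in its normalizer; the normalizer
modulo it is the extension of the simple quotient by an outer automorphism.
-/

set_option autoImplicit false
set_option maxRecDepth 100000
set_option Elab.async false

namespace Cfsg.Lib.MonsterFischer

open scoped commutatorElement

open Cfsg Cfsg.Lib.Concrete Cfsg.Lib.MonsterLocal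
open Cfsg.Lib.MonsterThree (syl sylE sylE_rep m24_ext exists_perm_packed)

/-- The product of the inverting permutation and the automorphism. -/
def swapTwist : ℕ := 104642867945522096169424165652257793

theorem twist_check : prodCheck (syl 3) (syl 9) (syl 13) = true ∧ prodCheck (syl 9) (syl 3) (syl 12) = true ∧
    prodCheck (syl 1) (syl 12) (syl 13) = true ∧ prodCheck (syl 3) (syl 1) (syl 4) = true ∧
    prodCheck (syl 1) (syl 3) (syl 4) = true ∧ prodCheck (syl 9) (syl 1) (syl 10) = true ∧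
    prodCheck (syl 1) (syl 9) (syl 10) = true ∧ prodCheck (swapPerm.getD 0 0) (syl 1) swapTwist = true ∧
    prodCheck (syl 2) (swapPerm.getD 0 0) swapTwist = true := by
  decide +kernel

theorem sylE_one : sylE 1 = sM := by
  refine m24_ext (sylE_rep 1) ?_
  show Concrete.Rep sigma (syl 1)
  rw [syl_check.1]
  exact rep_sigma

theorem sylE_two : sylE 2 = sM ^ 2 := by
  rw [← sylE_one, pow_two]
  exact m24_ext (sylE_rep 2) ((sylE_rep 1).mul (sylE_rep 1) syl_check.2.1)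

theorem mul_sylE {i j k : Fin 27} (h : prodCheck (syl i) (syl j) (syl k) = true) : sylE i * sylE j = sylE k :=
  m24_ext ((sylE_rep i).mul (sylE_rep j) h) (sylE_rep k)

/-- The permutation is a commutator in its centralizer. -/
theorem exists_comm_pair : ∃ g h : M24, g * sM = sM * g ∧ h * sM = sM * h ∧ g * h * g⁻¹ * h⁻¹ = sM := by
  obtain ⟨c1, c2, c3, c4, c5, c6, c7, -, -⟩ := twist_check
  refine ⟨sylE 3, sylE 9, ?_, ?_, ?_⟩
  · rw [← sylE_one, mul_sylE (k := 4) c4, mul_sylE (k := 4) c5]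
  · rw [← sylE_one, mul_sylE (k := 10) c6, mul_sylE (k := 10) c7]
  · have e1 : sylE 3 * sylE 9 = sylE 1 * (sylE 9 * sylE 3) := by
      rw [mul_sylE (k := 13) c1, mul_sylE (k := 12) c2, mul_sylE (k := 13) c3]
    rw [e1, sylE_one]
    group

/-- The permutation is inverted in the Mathieu group. -/
theorem exists_inverting : ∃ g : M24, g * sM * g⁻¹ = sM ^ 2 := by
  obtain ⟨h1, h2, h3, h4, -⟩ := swap_check
  obtain ⟨g, hg, -⟩ := exists_perm_packed h1 h2 h3
  obtain ⟨-, -, -, -, -, -, -, c1, c2⟩ := twist_check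
  refine ⟨⟨g, rep_mem_M24 hg h4⟩, mul_inv_eq_iff_eq_mul.2 ?_⟩
  rw [← sylE_two, ← sylE_one]
  exact Subtype.ext ((hg.mul (sylE_rep 1) c1).ext ((sylE_rep 2).mul hg c2))

variable {G : Type*} [Group G] [Finite G] {z : G} {Q : Subgroup (Subgroup.centralizer ({z} : Set G))} [Q.Normal]
  {a : G}

theorem f0_lift (D : Datum z Q f0 3 a) (g : M24) (k : ℕ) (hg : g * sM * g⁻¹ = sM ^ k) :
    ∃ c : Subgroup.centralizer ({z} : Set G), D.φ c = QuotientGroup.mk (permHom g) ∧
      (c : G) * a * (c : G)⁻¹ = a ^ k := by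
  refine D.exists_lift ?_
  show permHom g * permHom sM * (permHom g)⁻¹ = permHom sM ^ k
  rw [← map_inv, ← map_mul, ← map_mul, hg, map_pow]

/-- Some element inverts the element of order three. -/
theorem exists_inverts (D : Datum z Q f0 3 a) : ∃ c : G, c * a * c⁻¹ = a ^ 2 := by
  obtain ⟨g, hg⟩ := exists_inverting
  obtain ⟨c, -, hc⟩ := f0_lift D g 2 hg
  exact ⟨c, hc⟩

/-- The element of order three is a product of commutators of its centralizer. -/
theorem mem_commutator_cen (D : Datum z Q f0 3 a) :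
    a ∈ ⁅Subgroup.centralizer (Subgroup.zpowers a : Set G), Subgroup.centralizer (Subgroup.zpowers a : Set G)⁆ := by
  set C := Subgroup.centralizer (Subgroup.zpowers a : Set G) with hC
  obtain ⟨g, h, hg, hh, hgh⟩ := exists_comm_pair
  obtain ⟨cA, hA, hAa⟩ := f0_lift D g 1 (by rw [hg, mul_inv_cancel_right, pow_one])
  obtain ⟨cB, hB, hBa⟩ := f0_lift D h 1 (by rw [hh, mul_inv_cancel_right, pow_one])
  rw [pow_one] at hAa hBa
  have hA' : Commute (cA : G) a := mul_inv_eq_iff_eq_mul.1 hAa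
  have hB' : Commute (cB : G) a := mul_inv_eq_iff_eq_mul.1 hBa
  have memC : ∀ {x : G}, Commute x a → x ∈ C := fun {x} hx => by
    rw [hC, Subgroup.mem_centralizer_iff]
    intro y hy
    obtain ⟨i, rfl⟩ := Subgroup.mem_zpowers_iff.1 hy
    exact (hx.symm.zpow_left i).eq
  set w := ⁅(cA : G), (cB : G)⁆ with hw
  have hwC : w ∈ ⁅C, C⁆ := Subgroup.commutator_mem_commutator (memC hA') (memC hB')
  have hwa : Commute w a := by
    rw [hw, commutatorElement_def]
    exact ((hA'.mul_left hB').mul_left hA'.inv_left).mul_left hB'.inv_left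
  set q := D.aC⁻¹ * ⁅cA, cB⁆ with hq
  have hqQ : q ∈ Q := by
    rw [← D.φ_ker, hq, map_mul, map_inv, D.φ_aC, map_commutatorElement, hA, hB, commutatorElement_def,
      inv_mul_eq_one]
    show (QuotientGroup.mk f0 : Spor.Co1) = _
    rw [← QuotientGroup.mk_inv, ← QuotientGroup.mk_inv, ← QuotientGroup.mk_mul, ← QuotientGroup.mk_mul,
      ← QuotientGroup.mk_mul, ← map_inv, ← map_inv, ← map_mul, ← map_mul, ← map_mul, hgh]
    rfl
  have hqv : (q : G) = a⁻¹ * w := rfl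
  obtain ⟨-, -, -, hcard, -⟩ := D.setting
  have hq1 : (a⁻¹ * w) ^ (2 ^ (2 * 12 + 1)) = 1 := by
    rw [← hqv]
    have h := congrArg (fun x : Q => ((x : Subgroup.centralizer ({z} : Set G)) : G))
      (pow_card_eq_one' (x := (⟨q, hqQ⟩ : Q)))
    rw [hcard] at h
    simpa using h
  rw [(hwa.inv_right.symm).mul_pow, inv_pow, inv_mul_eq_one] at hq1
  have h3 : a ^ (2 ^ (2 * 12 + 1)) = a ^ 2 := by
    rw [← pow_mod_orderOf, D.order]
    norm_num
  have h2 : a ^ 2 ∈ ⁅C, C⁆ := by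
    rw [← h3, hq1]
    exact pow_mem hwC _
  have h4 : (a ^ 2) ^ 2 = a := by
    rw [← pow_mul, ← pow_mod_orderOf, D.order, show 2 * 2 % 3 = 1 from rfl, pow_one]
  rw [← h4]
  exact pow_mem h2 2

/-- A central subgroup inside the derived group with simple noncommutative quotient. -/
theorem quasisimple_of_central {A : Type*} [Group A] (N : Subgroup A) [N.Normal] (hc : N ≤ Subgroup.center A)
    (hd : N ≤ commutator A) (hs : IsSimpleGroup (A ⧸ N)) (hna : ¬ ∀ x y : A ⧸ N, x * y = y * x) :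
    Cfsg.IsQuasisimple A ∧ Subgroup.center A = N := by
  have hsurj := QuotientGroup.mk'_surjective N
  have hcom : (commutator A).map (QuotientGroup.mk' N) = ⊤ := by
    rcases hs.eq_bot_or_eq_top_of_normal _ (Subgroup.Normal.map (inferInstance : (commutator A).Normal) _ hsurj)
      with h | h
    · refine absurd (fun x y => ?_) hna
      obtain ⟨x, rfl⟩ := hsurj x
      obtain ⟨y, rfl⟩ := hsurj y
      have hm : ⁅x, y⁆ ∈ commutator A :=
        Subgroup.commutator_mem_commutator (Subgroup.mem_top x) (Subgroup.mem_top y)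
      have := Subgroup.mem_bot.1 (h ▸ Subgroup.mem_map_of_mem (QuotientGroup.mk' N) hm)
      rwa [map_commutatorElement, commutatorElement_eq_one_iff_mul_comm] at this
    · exact h
  have hperf : commutator A = ⊤ := by
    rw [← Subgroup.comap_top (QuotientGroup.mk' N), ← hcom, Subgroup.comap_map_eq, QuotientGroup.ker_mk',
      sup_eq_left.2 hd]
  have hcen : Subgroup.center A = N := by
    refine le_antisymm ?_ hc
    rcases hs.eq_bot_or_eq_top_of_normal _
      (Subgroup.Normal.map (inferInstance : (Subgroup.center A).Normal) _ hsurj) with h | h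
    · rwa [Subgroup.map_eq_bot_iff, QuotientGroup.ker_mk'] at h
    · refine absurd (fun x y => ?_) hna
      obtain ⟨x', hx', rfl⟩ := (h ▸ Subgroup.mem_top x : x ∈ (Subgroup.center A).map (QuotientGroup.mk' N))
      obtain ⟨y, rfl⟩ := hsurj y
      rw [← map_mul, ← map_mul, (Subgroup.mem_center_iff.1 hx' y)]
  exact ⟨⟨⟨hperf⟩, (QuotientGroup.quotientMulEquivOfEq hcen).isSimpleGroup_congr.2 hs⟩, hcen⟩

/-- The normalizer of a subgroup of order three modulo it, as a group with a subgroup of index two. -/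
theorem normalizer_quot {H : Type*} [Group H] (D' : Subgroup H) [D'.Normal] (hidx : D'.index = 2)
    (hc : Function.Bijective (MulAut.conjNormal : H →* MulAut D')) {A : Type*} [Group A] (Y : Subgroup A)
    [hn : (Y.subgroupOf (Subgroup.centralizer (Y : Set A))).Normal]
    [hn' : (Y.subgroupOf (Subgroup.normalizer (Y : Set A))).Normal] (hY : Y ≤ Subgroup.centralizer (Y : Set A))
    (hperf : commutator (Subgroup.centralizer (Y : Set A)) = ⊤)
    (hout : ∃ c ∈ Subgroup.normalizer (Y : Set A), c ∉ Subgroup.centralizer (Y : Set A))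
    (e : ↥(Subgroup.centralizer (Y : Set A)) ⧸ Y.subgroupOf (Subgroup.centralizer (Y : Set A)) ≃* D') :
    Nonempty (H ≃* ↥(Subgroup.normalizer (Y : Set A)) ⧸ Y.subgroupOf (Subgroup.normalizer (Y : Set A))) := by
  set C := Subgroup.centralizer (Y : Set A) with hC
  set NY := Subgroup.normalizer (Y : Set A) with hNY
  have hconj : ∀ n ∈ NY, ∀ y ∈ Y, n⁻¹ * y * n ∈ Y := fun n hnn y hy => by
    have := (Subgroup.mem_normalizer_iff.1 (inv_mem hnn) y).1 hy
    rwa [inv_inv] at this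
  have hCn : ∀ (n : NY) (x : C), n.1 * x.1 * n.1⁻¹ ∈ C := fun n x => by
    refine Subgroup.mem_centralizer_iff.2 ?_
    intro y hy
    have h1 : n.1⁻¹ * y * n.1 * x.1 = x.1 * (n.1⁻¹ * y * n.1) :=
      Subgroup.mem_centralizer_iff.1 x.2 _ (hconj n.1 n.2 y hy)
    calc y * (n.1 * x.1 * n.1⁻¹) = n.1 * (n.1⁻¹ * y * n.1 * x.1) * n.1⁻¹ := by group
      _ = n.1 * (x.1 * (n.1⁻¹ * y * n.1)) * n.1⁻¹ := by rw [h1]
      _ = n.1 * x.1 * n.1⁻¹ * y := by group
  let cj : NY → C ≃* C := fun n =>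
    { toFun := fun x => ⟨n.1 * x.1 * n.1⁻¹, hCn n x⟩
      invFun := fun x => ⟨n.1⁻¹ * x.1 * n.1, by simpa using hCn n⁻¹ x⟩
      left_inv := fun x => Subtype.ext (show n.1⁻¹ * (n.1 * x.1 * n.1⁻¹) * n.1 = x.1 by group)
      right_inv := fun x => Subtype.ext (show n.1 * (n.1⁻¹ * x.1 * n.1) * n.1⁻¹ = x.1 by group)
      map_mul' := fun x y => Subtype.ext (show n.1 * (x.1 * y.1) * n.1⁻¹ = _ * (n.1 * y.1 * n.1⁻¹) by
        show _ = n.1 * x.1 * n.1⁻¹ * (n.1 * y.1 * n.1⁻¹)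
        group) }
  have hcjY : ∀ n : NY, (Y.subgroupOf C).map (cj n).toMonoidHom = Y.subgroupOf C := fun n => by
    ext x
    rw [Subgroup.mem_map_equiv, Subgroup.mem_subgroupOf, Subgroup.mem_subgroupOf]
    show n.1⁻¹ * x.1 * n.1 ∈ Y ↔ x.1 ∈ Y
    have := Subgroup.mem_normalizer_iff.1 (inv_mem n.2) x.1
    rw [inv_inv] at this
    exact this.symm
  obtain ⟨ε, hε⟩ : ∃ ε : C →* D', ∀ x, ε x = e (QuotientGroup.mk x) :=
    ⟨e.toMonoidHom.comp (QuotientGroup.mk' _), fun _ => rfl⟩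
  have hεs : Function.Surjective ε := fun v => by
    obtain ⟨x, hx⟩ := QuotientGroup.mk_surjective (e.symm v)
    exact ⟨x, by rw [hε, hx, e.apply_symm_apply]⟩
  obtain ⟨κ, hκ⟩ : ∃ κ : NY → MulAut D', ∀ (n : NY) (x : C), κ n (ε x) = ε (cj n x) :=
    ⟨fun n => (e.symm.trans (QuotientGroup.congr _ _ (cj n) (hcjY n))).trans e, fun n x => by
      rw [hε, hε]
      simp only [MulEquiv.trans_apply, MulEquiv.symm_apply_apply]
      rfl⟩
  let κ' : NY →* MulAut D' := MonoidHom.mk' κ fun m n => MulEquiv.ext fun v => by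
    obtain ⟨x, rfl⟩ := hεs v
    rw [MulAut.mul_apply, hκ, hκ, hκ]
    exact congrArg ε (Subtype.ext (show m.1 * n.1 * x.1 * (m.1 * n.1)⁻¹ = m.1 * (n.1 * x.1 * n.1⁻¹) * m.1⁻¹ by group))
  let cE := MulEquiv.ofBijective (MulAut.conjNormal : H →* MulAut D') hc
  let ρ : NY →* H := cE.symm.toMonoidHom.comp κ'
  have hρC : ∀ (n : NY) (h : n.1 ∈ C), ρ n = (ε ⟨n.1, h⟩ : H) := fun n h => by
    apply cE.injective
    show cE (cE.symm (κ n)) = _
    rw [cE.apply_symm_apply]
    refine MulEquiv.ext fun v => ?_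
    obtain ⟨x, rfl⟩ := hεs v
    rw [hκ]
    refine Subtype.ext ?_
    show _ = ((MulAut.conjNormal (ε ⟨n.1, h⟩ : H)) (ε x) : H)
    rw [MulAut.conjNormal_apply, show cj n x = ⟨n.1, h⟩ * x * ⟨n.1, h⟩⁻¹ from Subtype.ext rfl, map_mul, map_mul,
      map_inv]
    rfl
  have hker : ρ.ker = Y.subgroupOf NY := by
    ext n
    rw [Subgroup.mem_subgroupOf]
    refine ⟨fun h => ?_, fun h => ?_⟩
    · have h1 : κ n = 1 := by
        have := congrArg cE (MonoidHom.mem_ker.1 h)
        rwa [map_one, show ρ n = cE.symm (κ n) from rfl, cE.apply_symm_apply] at this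
      have hmem : ∀ x : C, n.1 * x.1 * n.1⁻¹ * x.1⁻¹ ∈ Y := fun x => by
        have h2 := hκ n x
        rw [h1, MulAut.one_apply, hε, hε] at h2
        have h3 := e.injective h2.symm
        rw [QuotientGroup.eq, Subgroup.mem_subgroupOf] at h3
        have h4 : (cj n x).1⁻¹ * x.1 = n.1 * x.1⁻¹ * n.1⁻¹ * x.1 := by
          show (n.1 * x.1 * n.1⁻¹)⁻¹ * x.1 = _
          group
        have h5 : n.1 * x.1⁻¹ * n.1⁻¹ * x.1 ∈ Y := h4 ▸ h3
        have h6 := Subgroup.mem_centralizer_iff.1 x.2 _ h5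
        have h7 : n.1 * x.1 * n.1⁻¹ * x.1⁻¹ = (n.1 * x.1⁻¹ * n.1⁻¹ * x.1)⁻¹ := by
          rw [eq_inv_iff_mul_eq_one]
          calc n.1 * x.1 * n.1⁻¹ * x.1⁻¹ * (n.1 * x.1⁻¹ * n.1⁻¹ * x.1)
              = n.1 * x.1 * n.1⁻¹ * x.1⁻¹ * ((n.1 * x.1⁻¹ * n.1⁻¹ * x.1) * x.1) * x.1⁻¹ := by group
            _ = n.1 * x.1 * n.1⁻¹ * x.1⁻¹ * (x.1 * (n.1 * x.1⁻¹ * n.1⁻¹ * x.1)) * x.1⁻¹ := by rw [h6]
            _ = 1 := by group
        rw [h7]
        exact inv_mem h5
      have hYc : ∀ x : C, ∀ y ∈ Y, y * x.1 = x.1 * y := fun x y hy => Subgroup.mem_centralizer_iff.1 x.2 y hy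
      let χ : C →* Y := MonoidHom.mk' (fun x => ⟨_, hmem x⟩) fun x y => Subtype.ext (by
        show n.1 * (x.1 * y.1) * n.1⁻¹ * (x.1 * y.1)⁻¹ =
          n.1 * x.1 * n.1⁻¹ * x.1⁻¹ * (n.1 * y.1 * n.1⁻¹ * y.1⁻¹)
        have := hYc x _ (hmem y)
        calc n.1 * (x.1 * y.1) * n.1⁻¹ * (x.1 * y.1)⁻¹
            = n.1 * x.1 * n.1⁻¹ * ((n.1 * y.1 * n.1⁻¹ * y.1⁻¹) * x.1⁻¹) := by group
          _ = n.1 * x.1 * n.1⁻¹ * (x.1⁻¹ * (x.1 * (n.1 * y.1 * n.1⁻¹ * y.1⁻¹)) * x.1⁻¹) := by group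
          _ = n.1 * x.1 * n.1⁻¹ * (x.1⁻¹ * ((n.1 * y.1 * n.1⁻¹ * y.1⁻¹) * x.1) * x.1⁻¹) := by rw [this]
          _ = _ := by group)
      have hχ : χ.ker = ⊤ := top_le_iff.1 (hperf ▸ (by
        rw [commutator_def, Subgroup.commutator_le]
        intro x _ y _
        rw [MonoidHom.mem_ker, map_commutatorElement, commutatorElement_eq_one_iff_mul_comm]
        exact Subtype.ext (hYc ⟨_, hY (χ y).2⟩ _ (χ x).2)))
      have hcomm : ∀ x : C, n.1 * x.1 = x.1 * n.1 := fun x => by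
        have hk : χ x = 1 := MonoidHom.mem_ker.1 (hχ.symm ▸ Subgroup.mem_top x)
        have : n.1 * x.1 * n.1⁻¹ * x.1⁻¹ = 1 := congrArg Subtype.val hk
        exact mul_inv_eq_iff_eq_mul.1 (mul_inv_eq_one.1 this :)
      have hnC : n.1 ∈ C := Subgroup.mem_centralizer_iff.2 fun y hy => (hcomm ⟨y, hY hy⟩).symm
      have hcl : (ε ⟨n.1, hnC⟩ : H) = 1 := (hρC n hnC).symm.trans (MonoidHom.mem_ker.1 h)
      have hcl' : ε ⟨n.1, hnC⟩ = 1 := Subtype.ext hcl
      rw [hε, MulEquiv.map_eq_one_iff, QuotientGroup.eq_one_iff] at hcl'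
      exact hcl'
    · rw [MonoidHom.mem_ker, hρC n (hY h), hε,
        (QuotientGroup.eq_one_iff (⟨n.1, hY h⟩ : C)).2 (Subgroup.mem_subgroupOf.2 h), map_one]
      rfl
  have hCN : C ≤ NY := fun x hx => Subgroup.mem_normalizer_iff.2 fun y => by
    constructor
    · intro hy
      rwa [← Subgroup.mem_centralizer_iff.1 hx y hy, mul_inv_cancel_right]
    · intro hy
      have h := Subgroup.mem_centralizer_iff.1 hx _ hy
      have : x * y * x⁻¹ = y := by
        calc x * y * x⁻¹ = x⁻¹ * (x * (x * y * x⁻¹)) := by group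
          _ = x⁻¹ * ((x * y * x⁻¹) * x) := by rw [h]
          _ = y := by group
      rwa [this] at hy
  have hρs : Function.Surjective ρ := by
    rw [← MonoidHom.range_eq_top]
    obtain ⟨c, hcN, hcC⟩ := hout
    have hle : D' ≤ ρ.range := fun v hv => by
      obtain ⟨x, hx⟩ := hεs ⟨v, hv⟩
      exact ⟨⟨x.1, hCN x.2⟩, by rw [hρC _ x.2]; exact congrArg Subtype.val hx⟩
    have hcD : ρ ⟨c, hcN⟩ ∉ D' := by
      intro hv
      obtain ⟨x, hx⟩ := hεs ⟨_, hv⟩
      have h1 : ρ ⟨c, hcN⟩ = ρ ⟨x.1, hCN x.2⟩ := by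
        rw [hρC ⟨x.1, hCN x.2⟩ x.2]; exact (congrArg Subtype.val hx).symm
      have h2 : (⟨x.1, hCN x.2⟩ : NY)⁻¹ * ⟨c, hcN⟩ ∈ ρ.ker := by
        rw [MonoidHom.mem_ker, map_mul, map_inv, h1, inv_mul_cancel]
      rw [hker, Subgroup.mem_subgroupOf] at h2
      refine hcC ?_
      have h3 := mul_mem x.2 (hY h2)
      simpa using h3
    rw [eq_top_iff]
    intro v _
    by_cases hv : v ∈ D'
    · exact hle hv
    · have h1 : v * (ρ ⟨c, hcN⟩)⁻¹ ∈ D' := (Subgroup.mul_mem_iff_of_index_two hidx).2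
        (iff_of_false hv (fun h => hcD (by simpa using inv_mem h)))
      have h2 := mul_mem (hle h1) (⟨⟨c, hcN⟩, rfl⟩ : ρ ⟨c, hcN⟩ ∈ ρ.range)
      simpa using h2
  exact ⟨((QuotientGroup.quotientMulEquivOfEq hker).symm.trans
    (QuotientGroup.quotientKerEquivOfSurjective ρ hρs)).symm⟩

end Cfsg.Lib.MonsterFischer
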