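import Cfsg.Agent.Lib.MonsterFischer.Quot
import Cfsg.Agent.Lib.MonsterThree.Classes
import Cfsg.Agent.Lib.MonsterThree.Lift

/-!
A group of order three in the common centralizer of two commuting central involutions that is central in a Sylow
subgroup corresponds to the automorphism fixing six points.
-/

set_option autoImplicit false
set_option maxRecDepth 100000
set_option Elab.async false

namespace Cfsg.Lib.MonsterFischer

open Cfsg Cfsg.Lib.Concrete Cfsg.Lib.MonsterLocal
open Cfsg.Lib.MonsterThree (syl sylE sylE_rep sylE_zero sylT card_sylT factorization_M24 m24_ext crossPerm_center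
  exists_perm_hom)

theorem crossPerm_f0 : crossPerm ⟨f0, f0_mem_crossStab⟩ = sM := crossPerm_permHom ⟨sigma, sigma_mem⟩

theorem sM_ne_one : sM ≠ 1 := by
  intro h
  have : sigma (gpt (Fin.ofNat 24 swapWitness)) ≠ gpt (Fin.ofNat 24 swapWitness) := by decide +kernel
  exact this (by rw [show sigma = 1 from congrArg Subtype.val h]; rfl)

/-- An element of order three of the cross stabiliser over the permutation is conjugate to the automorphism. -/
theorem conj_f0 {g : crossStab} (h3 : g ^ 3 = 1) (hg : crossPerm g = sM) :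
    ∃ w : crossStab, w * g * w⁻¹ = ⟨f0, f0_mem_crossStab⟩ := by
  haveI : Fact (Nat.Prime 3) := ⟨Nat.prime_three⟩
  set fE : crossStab := ⟨f0, f0_mem_crossStab⟩ with hfE
  have hf3 : fE ^ 3 = 1 := Subtype.ext f0_pow_three
  have hord : ∀ x : crossStab, x ^ 3 = 1 → crossPerm x = sM → orderOf x = 3 := fun x h3' hx =>
    orderOf_eq_prime h3' fun h => sM_ne_one (by rw [← hx, h, map_one])
  set H := (Subgroup.zpowers sM).comap crossPerm with hH
  have hgH : g ∈ H := by rw [hH, Subgroup.mem_comap, hg]; exact Subgroup.mem_zpowers _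
  have hfH : fE ∈ H := by rw [hH, Subgroup.mem_comap, crossPerm_f0]; exact Subgroup.mem_zpowers _
  haveI : Finite crossStab := Nat.finite_of_card_ne_zero (by rw [card_crossStab]; norm_num)
  have hsig : orderOf sM = 3 := orderOf_eq_prime (by rw [← crossPerm_f0, ← map_pow, hf3, map_one]) sM_ne_one
  have hk : Nat.card crossPerm.ker = 4096 := by
    rw [← card_signSub, signSub, Subgroup.card_map_of_injective crossStab.subtype_injective]
  have hcardH : (Nat.card H).factorization 3 = 1 := by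
    have h := Subgroup.card_mul_index (crossPerm.comp H.subtype).ker
    rw [Subgroup.index_ker, MonoidHom.range_comp, Subgroup.range_subtype,
      Subgroup.map_comap_eq_self_of_surjective crossPerm_surjective, Nat.card_zpowers, hsig,
      show (crossPerm.comp H.subtype).ker = crossPerm.ker.subgroupOf H from rfl,
      Nat.card_congr (Subgroup.subgroupOfEquivOfLe (show crossPerm.ker ≤ H from fun x hx => by
        rw [hH, Subgroup.mem_comap, MonoidHom.mem_ker.1 hx]; exact one_mem _)).toEquiv, hk] at h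
    rw [← h, Nat.factorization_mul (by norm_num) (by norm_num), Finsupp.add_apply,
      Nat.Prime.factorization_self Nat.prime_three, Nat.factorization_eq_zero_of_not_dvd (by norm_num)]
  have hcard : ∀ (x : crossStab) (hx : x ∈ H), orderOf x = 3 →
      Nat.card (Subgroup.zpowers (⟨x, hx⟩ : H)) = 3 ^ (Nat.card H).factorization 3 := fun x hx ho => by
    rw [Nat.card_zpowers, Subgroup.orderOf_mk, ho, hcardH, pow_one]
  obtain ⟨w, hw⟩ := MulAction.exists_smul_eq H (Sylow.ofCard _ (hcard g hgH (hord g h3 hg)))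
    (Sylow.ofCard _ (hcard fE hfH (hord fE hf3 crossPerm_f0)))
  refine ⟨w.1, ?_⟩
  have hmem : w * ⟨g, hgH⟩ * w⁻¹ ∈ Subgroup.zpowers (⟨fE, hfH⟩ : H) := by
    have h := congrArg (fun P : Sylow 3 H => (P : Subgroup H)) hw
    simp only [Sylow.coe_subgroup_smul, Sylow.coe_ofCard] at h
    rw [← h]
    exact ⟨⟨g, hgH⟩, Subgroup.mem_zpowers _, rfl⟩
  obtain ⟨i, hi⟩ := Subgroup.mem_zpowers_iff.1 hmem
  have hi' : fE ^ i = w.1 * g * w.1⁻¹ := by simpa using congrArg Subtype.val hi
  obtain ⟨j, hj⟩ := Subgroup.mem_zpowers_iff.1 (Subgroup.mem_comap.1 w.2)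
  have e : sM ^ i = sM := by
    have := congrArg crossPerm hi'
    rw [map_zpow, crossPerm_f0, map_mul, map_mul, map_inv, hg, ← hj] at this
    rw [this]
    group
  rw [← hi']
  have h31 : (3 : ℤ) ∣ i - 1 := by
    have h1 : sM ^ (i - 1) = 1 := by rw [zpow_sub_one, e, mul_inv_cancel]
    have := orderOf_dvd_iff_zpow_eq_one.2 h1
    rwa [hsig] at this
  obtain ⟨m, hm⟩ := h31
  rw [show i = 1 + ((3 : ℕ) : ℤ) * m by push_cast; omega, zpow_add, zpow_one, zpow_mul, zpow_natCast, hf3, one_zpow,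
    mul_one]

theorem syl_check : syl 1 = sPow 1 ∧ prodCheck (syl 1) (syl 1) (syl 2) = true ∧
    ((List.range 27).all fun i => decide (i < 3) ||
      (List.range 27).any fun j => !((List.range 27).any fun k =>
        prodCheck (syl i) (syl j) (syl k) && prodCheck (syl j) (syl i) (syl k))) = true ∧
    ((List.range 27).all fun i => (List.range 27).all fun j =>
      (List.range 27).any fun k => prodCheck (syl i) (syl j) (syl k)) = true := by
  decide +kernel

theorem prodCheck_of_rep {g h k : M24} {p q r : ℕ} (hg : Concrete.Rep g.1 p) (hh : Concrete.Rep h.1 q)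
    (hk : Concrete.Rep k.1 r) (e : g * h = k) : prodCheck p q r = true := by
  subst e
  refine List.all_eq_true.2 fun i hi => ?_
  rw [Nat.beq_eq, ← hk.apply ⟨i, mem_bits24.1 hi⟩]
  have h1 := hh.apply ⟨i, mem_bits24.1 hi⟩
  rw [Subgroup.coe_mul, Equiv.Perm.mul_apply]
  rw [hg, h1]

theorem sylE_central {c : Fin 27} (hc : ∀ x ∈ sylT, x * sylE c = sylE c * x) :
    (c : ℕ) = 0 ∨ sylE c = sM ∨ sylE c = sM ^ 2 := by
  have t := List.all_eq_true.1 syl_check.2.2.1 c (List.mem_range.2 c.2)
  simp only [Bool.or_eq_true, decide_eq_true_eq, List.any_eq_true, Bool.not_eq_true', List.mem_range] at t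
  have hs : sylE 1 = sM := by
    refine m24_ext (sylE_rep 1) ?_
    show Concrete.Rep sigma (syl 1)
    rw [syl_check.1]
    exact rep_sigma
  rcases t with t | ⟨j, hj, t⟩
  · rcases c with ⟨c, hc27⟩
    simp only at t
    interval_cases c
    · exact Or.inl rfl
    · exact Or.inr (Or.inl hs)
    · refine Or.inr (Or.inr ?_)
      rw [← hs, pow_two]
      exact m24_ext (sylE_rep 2) ((sylE_rep 1).mul (sylE_rep 1) syl_check.2.1)
  · exfalso
    obtain ⟨k, hk⟩ := MonsterThree.sylE_mul c ⟨j, hj⟩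
    have h1 := prodCheck_of_rep (sylE_rep c) (sylE_rep ⟨j, hj⟩) (sylE_rep k) hk
    have h2 := prodCheck_of_rep (sylE_rep ⟨j, hj⟩) (sylE_rep c) (sylE_rep k)
      ((hc _ ⟨⟨j, hj⟩, rfl⟩).trans hk)
    have := List.any_eq_false.1 t k (List.mem_range.2 k.2)
    simp [h1, h2] at this

/-- The datum of a group of order three that is central in a Sylow subgroup. -/
theorem exists_datum {G : Type*} [Group G] [Finite G] {z : G}
    {Q : Subgroup (Subgroup.centralizer ({z} : Set G))} [Q.Normal] (hM : IsOfMonsterType z Q) (q : Q)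
    (hc : IsConj z ((q : Subgroup.centralizer ({z} : Set G)) : G))
    (hne : ((q : Subgroup.centralizer ({z} : Set G)) : G) ≠ z) (Y : Subgroup G)
    (hY : Y ≤ Subgroup.centralizer ({z, ((q : Subgroup.centralizer ({z} : Set G)) : G)} : Set G))
    (hY3 : Nat.card Y = 3)
    (hcen : ∃ P : Sylow 3 ↥(Subgroup.centralizer ({z, ((q : Subgroup.centralizer ({z} : Set G)) : G)} : Set G)),
      Y.subgroupOf (Subgroup.centralizer ({z, ((q : Subgroup.centralizer ({z} : Set G)) : G)} : Set G)) ≤
        (Subgroup.center ↥(P : Subgroup ↥(Subgroup.centralizer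
          ({z, ((q : Subgroup.centralizer ({z} : Set G)) : G)} : Set G)))).map
          (P : Subgroup ↥(Subgroup.centralizer ({z, ((q : Subgroup.centralizer ({z} : Set G)) : G)} : Set G))).subtype) :
    ∃ a : G, Y = Subgroup.zpowers a ∧ Commute a ((q : Subgroup.centralizer ({z} : Set G)) : G) ∧
      Nonempty (Datum z Q f0 3 a) := by
  haveI : Fact (Nat.Prime 3) := ⟨Nat.prime_three⟩
  haveI : Fact (Nat.Prime 2) := ⟨Nat.prime_two⟩
  haveI : Finite M24 := Nat.finite_of_card_ne_zero (by rw [card_M24]; norm_num)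
  set s := ((q : Subgroup.centralizer ({z} : Set G)) : G) with hs
  set L := Subgroup.centralizer ({z, s} : Set G) with hL
  obtain ⟨e, ψ, hψ, Φ, hΦs, hΦk, hrep⟩ := exists_perm_hom hM q hc hne
  obtain ⟨P, hP⟩ := hcen
  haveI : Nontrivial Y := Finite.one_lt_card_iff_nontrivial.1 (by rw [hY3]; norm_num)
  obtain ⟨⟨b0, hb0⟩, hb01⟩ := exists_ne (1 : Y)
  set bL : L := ⟨b0, hY hb0⟩ with hbL
  have hb3 : bL ^ 3 = 1 := Subtype.ext (by
    have := congrArg Subtype.val (pow_card_eq_one' (x := (⟨b0, hb0⟩ : Y)))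
    rwa [hY3] at this)
  have hbne : bL ≠ 1 := fun h => hb01 (Subtype.ext (congrArg Subtype.val h :))
  have hYz : ∀ b : L, b.1 ∈ Y → b ≠ 1 → Y = Subgroup.zpowers b.1 := by
    intro b hb h1
    refine (Subgroup.eq_of_le_of_card_ge (Subgroup.zpowers_le.2 hb) ?_).symm
    rw [Nat.card_zpowers, hY3]
    refine le_of_eq (orderOf_eq_prime ?_ fun h => h1 (Subtype.ext h)).symm
    have := congrArg Subtype.val (pow_card_eq_one' (x := (⟨b.1, hb⟩ : Y)))
    rwa [hY3] at this
  obtain ⟨⟨bP, hbP⟩, hbc, hbe⟩ := hP (show bL ∈ Y.subgroupOf L from Subgroup.mem_subgroupOf.2 hb0)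
  have hbe' : bP = bL := hbe
  subst hbe'
  obtain ⟨k, hk⟩ := hΦk.exists_card_eq
  have hfL : (Nat.card L).factorization 3 = 3 := by
    have h := Subgroup.card_mul_index Φ.ker
    rw [Subgroup.index_ker, MonoidHom.range_eq_top.2 hΦs, Subgroup.card_top, hk] at h
    rw [← h, Nat.factorization_mul (by positivity) (by rw [card_M24]; norm_num), Finsupp.add_apply,
      Nat.Prime.factorization_pow Nat.prime_two, Finsupp.single_eq_of_ne (by norm_num), zero_add, factorization_M24]
  have hcP : Nat.card P = 27 := by rw [P.card_eq_multiplicity, hfL]; norm_num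
  have hinj : Function.Injective (Φ.comp (P : Subgroup L).subtype) := by
    rw [injective_iff_map_eq_one]
    intro x hx
    obtain ⟨n, hn⟩ := hΦk ⟨x.1, hx⟩
    have hn' : x ^ (2 ^ n) = 1 := Subtype.ext (by simpa using congrArg Subtype.val hn)
    have h27 : orderOf x ∣ 27 := hcP ▸ orderOf_dvd_natCard x
    exact orderOf_eq_one_iff.1 (Nat.eq_one_of_dvd_coprimes
      (show Nat.Coprime 27 (2 ^ n) from (by norm_num : Nat.Coprime 27 2).pow_right n) h27
      (orderOf_dvd_of_pow_eq_one hn'))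
  set T := (Φ.comp (P : Subgroup L).subtype).range with hT
  have hcT : Nat.card T = 3 ^ (Nat.card M24).factorization 3 := by
    rw [factorization_M24, ← Nat.card_congr (MonoidHom.ofInjective hinj).toEquiv]
    exact hcP
  obtain ⟨g, hg⟩ := MulAction.exists_smul_eq M24 (Sylow.ofCard T hcT)
    (Sylow.ofCard sylT (by rw [card_sylT, factorization_M24]; rfl))
  have hgT : T.map (MulAut.conj g).toMonoidHom = sylT := by
    have h := congrArg (fun S : Sylow 3 M24 => (S : Subgroup M24)) hg
    simp only [Sylow.coe_subgroup_smul, Sylow.coe_ofCard] at h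
    exact h
  obtain ⟨c, hc'⟩ : g * Φ bL * g⁻¹ ∈ sylT := hgT ▸ ⟨Φ bL, ⟨⟨bL, hbP⟩, rfl⟩, rfl⟩
  have hcc : ∀ x ∈ sylT, x * sylE c = sylE c * x := by
    intro x hx
    rw [← hgT] at hx
    obtain ⟨_, ⟨u, rfl⟩, rfl⟩ := hx
    have hu : u.1 * bL = bL * u.1 := congrArg Subtype.val (Subgroup.mem_center_iff.1 hbc u)
    rw [hc']
    show MulAut.conj g (Φ u.1) * MulAut.conj g (Φ bL) = MulAut.conj g (Φ bL) * MulAut.conj g (Φ u.1)
    rw [← map_mul, ← map_mul, ← map_mul, ← map_mul, hu]
  have hb1' : Φ bL ≠ 1 := fun h => hbne (congrArg Subtype.val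
    (hinj (a₁ := ⟨bL, hbP⟩) (a₂ := 1) (h.trans (map_one _).symm)))
  have hs3 : sM ^ 3 = 1 := by
    rw [← crossPerm_f0, ← map_pow, show (⟨f0, f0_mem_crossStab⟩ : crossStab) ^ 3 = 1 from
      Subtype.ext f0_pow_three, map_one]
  obtain ⟨b, hbY, hb3', hb1, hbσ⟩ : ∃ b : L, b.1 ∈ Y ∧ b ^ 3 = 1 ∧ b ≠ 1 ∧ g * Φ b * g⁻¹ = sM := by
    rcases sylE_central hcc with h0 | h1 | h2
    · rw [show c = 0 from Fin.ext h0, sylE_zero] at hc'
      exact absurd (conj_eq_one_iff.1 hc'.symm) hb1'
    · exact ⟨bL, hb0, hb3, hbne, by rw [← hc', h1]⟩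
    · refine ⟨bL ^ 2, Y.pow_mem hb0 2, by rw [← pow_mul, mul_comm, pow_mul, hb3, one_pow], fun h => hbne ?_, ?_⟩
      · rw [← hb3, pow_succ, h, one_mul]
      · rw [map_pow, ← conj_pow, ← hc', h2, ← pow_mul, show 2 * 2 = 3 + 1 from rfl, pow_succ, hs3, one_mul]
  have hbzs := Subgroup.mem_centralizer_iff.1 b.2
  have hbC : b.1 ∈ Subgroup.centralizer ({z} : Set G) :=
    Subgroup.mem_centralizer_singleton_iff.2 (hbzs z (by simp)).symm
  have hbs : Commute b.1 s := (hbzs s (by simp)).symm
  obtain ⟨g1, hge, hgp⟩ := hrep b hbC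
  set bC : Subgroup.centralizer ({z} : Set G) := ⟨b.1, hbC⟩ with hbCdef
  have hbC3 : bC ^ 3 = 1 := Subtype.ext (congrArg Subtype.val hb3' :)
  set t := g1 ^ 3 with ht
  have htc : t.1 ∈ Subgroup.center Co0 := by
    rw [← QuotientGroup.eq_one_iff, ht, SubmonoidClass.coe_pow, QuotientGroup.mk_pow, ← hge, ← map_pow,
      ← QuotientGroup.mk_pow, hbC3, QuotientGroup.mk_one, map_one]
  have ht2 : t ^ 2 = 1 := Subtype.ext (by
    have := congrArg Subtype.val (pow_card_eq_one' (x := (⟨t.1, htc⟩ : Subgroup.center Co0)))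
    rwa [card_center_Co0] at this)
  have hgt3 : (g1 * t) ^ 3 = 1 := by
    rw [(show Commute g1 t from (Commute.refl g1).pow_right 3).mul_pow, ← ht, ← pow_succ',
      show 3 + 1 = 2 * 2 from rfl, pow_mul, ht2, one_pow]
  have hge' : (QuotientGroup.mk (g1 * t).1 : Spor.Co1) = e (QuotientGroup.mk bC) := by
    rw [Subgroup.coe_mul, QuotientGroup.mk_mul, (QuotientGroup.eq_one_iff t.1).2 htc, mul_one, hge]
  obtain ⟨h', hh'⟩ := crossPerm_surjective g
  have hσ : crossPerm (h' * (g1 * t) * h'⁻¹) = sM := by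
    rw [map_mul, map_mul, map_mul, map_inv, hh', crossPerm_center htc, mul_one, ← hgp, hbσ]
  obtain ⟨w, hw⟩ := conj_f0 (by
    rw [← MulAut.conj_apply, ← map_pow, hgt3, map_one]) hσ
  have hX : (w * h').1 * (g1 * t).1 * (w * h').1⁻¹ = f0 := by
    have hw' := congrArg Subtype.val hw
    simp only [Subgroup.coe_mul, InvMemClass.coe_inv] at hw' ⊢
    rw [← hw']
    group
  refine ⟨b.1, hYz b hbY hb1, hbs, ⟨?_⟩⟩
  exact
    { setting := hM.1
      e := e.trans (MulAut.conj (QuotientGroup.mk (w * h').1 : Spor.Co1))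
      ψ := fun v => ψ ((w * h').1⁻¹ • v)
      iso := twist e ψ hψ (w * h').1
      prime := Nat.prime_three
      odd := by decide
      mem := hbC
      order := by rw [Subgroup.orderOf_coe]; exact orderOf_eq_prime hb3' hb1
      fpow := f0_pow_three
      image := by
        rw [MulEquiv.trans_apply, ← hge', MulAut.conj_apply, ← QuotientGroup.mk_inv, ← QuotientGroup.mk_mul,
          ← QuotientGroup.mk_mul, hX] }

end Cfsg.Lib.MonsterFischer
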