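import Cfsg.Agent.Lib.MonsterFischer.Rho

/-!
The centralizer modulo the centre and the automorphism of order three: its two normal subgroups and the section
between them, and the absence of normal 2-subgroups.
-/

set_option autoImplicit false
set_option maxRecDepth 100000
set_option Elab.async false

namespace Cfsg.Lib.MonsterFischer

open Cfsg Cfsg.Lib.Concrete Cfsg.Lib.MonsterLocal
open Cfsg.Lib.SUSixU43 (Q112 card_Q112 psu_equiv_Q112 simple_psu)
open Cfsg.Lib.PermAut.MclPsu (R9)

/-- The group of order six, in the centralizer. -/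
noncomputable abbrev baseC : Subgroup cenF := baseSub.subgroupOf cenF

theorem baseC_central : baseC ≤ Subgroup.center cenF := by
  intro x hx
  refine Subgroup.mem_center_iff.2 fun y => Subtype.ext ?_
  let S : Subgroup Co0 := Subgroup.centralizer ({y.1} : Set Co0)
  have hle : baseSub ≤ S := sup_le (Subgroup.center_le_centralizer _)
    (Subgroup.zpowers_le.2 (Subgroup.mem_centralizer_singleton_iff.2 (mem_cenF.1 y.2).symm.eq))
  exact (Subgroup.mem_centralizer_singleton_iff.1 (hle (Subgroup.mem_subgroupOf.1 hx))).symm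

instance baseC_normal : baseC.Normal :=
  ⟨fun x hx y => by rw [Subgroup.mem_center_iff.1 (baseC_central hx) y, mul_inv_cancel_right]; exact hx⟩

/-- The quotient. -/
noncomputable abbrev LQ : Type := cenF ⧸ baseC

/-- The quotient map. -/
noncomputable abbrev rho : cenF →* LQ := QuotientGroup.mk' baseC

theorem rho_surjective : Function.Surjective rho := QuotientGroup.mk'_surjective _

theorem rho_eq_one_iff (g : cenF) : rho g = 1 ↔ g.1 ∈ Subgroup.center Co0 ⊔ Subgroup.zpowers f0 := by
  rw [QuotientGroup.mk'_apply, QuotientGroup.eq_one_iff, Subgroup.mem_subgroupOf]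

theorem rho_eq_one_of_fix (g : cenF) (h : ∀ q ∈ fixSet f0, qact g.1 q = q) : rho g = 1 :=
  (rho_eq_one_iff g).2 (base_of_fix h)

/-- The maps commuting with the scalar. -/
noncomputable abbrev scalC : Subgroup cenF := scalStab.subgroupOf cenF

theorem base_le_scalC : baseC ≤ scalC := fun x hx =>
  scal_of_fix (mem_cenF.1 x.2) (base_trivial (Subgroup.mem_subgroupOf.1 hx))

instance scalC_normal : scalC.Normal := Subgroup.normal_of_index_eq_two structure_facts.2.2.2.2.2

/-- Onto the unitary group. -/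
noncomputable def chi : scalC →* Q112 :=
  (rho0.comp ((cenF.subtype.comp scalC.subtype).codRestrict frmStab fun x =>
    structure_facts.1.ge (Subgroup.mem_subgroupOf.1 x.2))).codRestrict _ fun _ =>
      (SetLike.ext_iff.1 structure_facts.2.1 _).1 ⟨_, rfl⟩

theorem chi_surjective : Function.Surjective chi := by
  intro y
  obtain ⟨g, hg⟩ := structure_facts.2.1.ge y.2
  exact ⟨⟨⟨g.1, scal_le g.2.1⟩, g.2.1⟩, Subtype.ext hg⟩

theorem mem_chi_ker {x : scalC} : x ∈ chi.ker ↔ rho0 ⟨x.1.1, structure_facts.1.ge x.2⟩ = 1 := by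
  rw [MonoidHom.mem_ker, Subtype.ext_iff]
  rfl

theorem card_chi_ker : Nat.card chi.ker = 18 := by
  rw [← structure_facts.2.2.1]
  exact Nat.card_congr
    { toFun := fun x => ⟨⟨x.1.1.1, structure_facts.1.ge x.1.2⟩, MonoidHom.mem_ker.2 (mem_chi_ker.1 x.2)⟩
      invFun := fun g => ⟨⟨⟨g.1.1, scal_le g.1.2.1⟩, g.1.2.1⟩, mem_chi_ker.2 (MonoidHom.mem_ker.1 g.2)⟩
      left_inv := fun x => rfl
      right_inv := fun g => rfl }

theorem simple_Q112 : IsSimpleGroup Q112 := by
  obtain ⟨e⟩ := psu_equiv_Q112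
  haveI := simple_psu
  exact e.symm.isSimpleGroup

theorem image_bot {N : Subgroup scalC} (hN : N.Normal) (h : Nat.card (N.map chi) < 3265920) : N ≤ chi.ker := by
  haveI := simple_Q112
  rcases (hN.map chi chi_surjective).eq_bot_or_eq_top with e | e
  · intro x hx
    exact MonoidHom.mem_ker.2 (Subgroup.mem_bot.1 (e ▸ Subgroup.mem_map_of_mem chi hx))
  · rw [e, Subgroup.card_top, card_Q112] at h
    exact absurd h (lt_irrefl _)

/-- The kernel, in the centralizer. -/
noncomputable abbrev scalarC : Subgroup cenF := chi.ker.map scalC.subtype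

instance scalarC_normal : scalarC.Normal := by
  haveI := finite_Co0
  refine ⟨fun x hx y => ?_⟩
  obtain ⟨k, hk, rfl⟩ := hx
  let c : scalC ≃* scalC :=
    { toFun := fun u => ⟨y * u.1 * y⁻¹, scalC_normal.conj_mem u.1 u.2 y⟩
      invFun := fun u => ⟨y⁻¹ * u.1 * y, by simpa using scalC_normal.conj_mem u.1 u.2 y⁻¹⟩
      left_inv := fun u => Subtype.ext (by simp [mul_assoc])
      right_inv := fun u => Subtype.ext (by simp [mul_assoc])
      map_mul' := fun u v => Subtype.ext (by simp [mul_assoc]) }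
  have hsmall : Nat.card ((chi.ker.map c.toMonoidHom).map chi) < 3265920 := by
    refine lt_of_le_of_lt (Nat.le_of_dvd Nat.card_pos ((Subgroup.card_map_dvd _ _).trans
      (Subgroup.card_map_dvd _ _))) ?_
    rw [card_chi_ker]
    norm_num
  have hle := image_bot (Subgroup.Normal.map inferInstance c.toMonoidHom c.surjective) hsmall
  exact ⟨c k, hle ⟨k, hk, rfl⟩, rfl⟩

theorem base_le_scalarC : baseC ≤ scalarC := fun x hx =>
  ⟨⟨x, base_le_scalC hx⟩, mem_chi_ker.2 (rho0_of_fix (base_trivial (Subgroup.mem_subgroupOf.1 hx))), rfl⟩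

theorem card_baseC : Nat.card baseC = 6 := by
  rw [Nat.card_congr (Subgroup.subgroupOfEquivOfLe base_le_cenF).toEquiv, ← structure_facts.2.2.2.1,
    Nat.card_congr (Subgroup.subgroupOfEquivOfLe (show baseSub.subgroupOf frmStab ≤ rho0.ker from
      fun g hg => rho0_of_fix (base_trivial hg))).toEquiv,
    Nat.card_congr (Subgroup.subgroupOfEquivOfLe base_le_stab).toEquiv]

/-- The normal subgroup of index two. -/
noncomputable abbrev MQ : Subgroup LQ := scalC.map rho

/-- The normal subgroup of order three. -/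
noncomputable abbrev NQ : Subgroup LQ := scalarC.map rho

instance MQ_normal : MQ.Normal := Subgroup.Normal.map scalC_normal rho rho_surjective

instance NQ_normal : NQ.Normal := Subgroup.Normal.map scalarC_normal rho rho_surjective

theorem card_map_mul {A B : Type*} [Group A] [Group B] (f : A →* B) (H : Subgroup A) (h : f.ker ≤ H) :
    Nat.card f.ker * Nat.card (H.map f) = Nat.card H := by
  have e := Subgroup.card_mul_index (f.comp H.subtype).ker
  rw [Subgroup.index_ker, MonoidHom.range_comp, Subgroup.range_subtype,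
    show (f.comp H.subtype).ker = f.ker.subgroupOf H from rfl,
    Nat.card_congr (Subgroup.subgroupOfEquivOfLe h).toEquiv] at e
  exact e

theorem card_NQ : Nat.card NQ = 3 := by
  have h := card_map_mul rho scalarC (by rw [QuotientGroup.ker_mk']; exact base_le_scalarC)
  rw [QuotientGroup.ker_mk', card_baseC, Subgroup.card_map_of_injective scalC.subtype_injective,
    card_chi_ker] at h
  exact Nat.eq_of_mul_eq_mul_left (show 0 < 6 by norm_num) (h.trans (by norm_num))

theorem index_MQ : MQ.index = 2 := by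
  rw [Subgroup.index_map_eq _ rho_surjective (by rw [QuotientGroup.ker_mk']; exact base_le_scalC)]
  exact structure_facts.2.2.2.2.2

theorem NQ_le : NQ ≤ MQ := Subgroup.map_mono (Subgroup.map_subtype_le _)

theorem section_equiv : Nonempty (MQ ⧸ NQ.subgroupOf MQ ≃* PSU 4 R9 3) := by
  obtain ⟨e⟩ := psu_equiv_Q112
  let g : scalC →* MQ ⧸ NQ.subgroupOf MQ :=
    (QuotientGroup.mk' (NQ.subgroupOf MQ)).comp (rho.subgroupMap scalC)
  have hg : Function.Surjective g :=
    (QuotientGroup.mk'_surjective _).comp (MonoidHom.subgroupMap_surjective _ _)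
  have hk : g.ker = chi.ker := by
    ext x
    rw [MonoidHom.mem_ker, MonoidHom.comp_apply, QuotientGroup.mk'_apply, QuotientGroup.eq_one_iff,
      Subgroup.mem_subgroupOf]
    show rho x.1 ∈ scalarC.map rho ↔ _
    rw [← Subgroup.mem_comap, Subgroup.comap_map_eq_self (by rw [QuotientGroup.ker_mk']; exact base_le_scalarC)]
    exact Subgroup.mem_map_iff_mem scalC.subtype_injective
  exact ⟨((QuotientGroup.quotientKerEquivOfSurjective g hg).symm.trans (QuotientGroup.quotientMulEquivOfEq hk)).trans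
    ((QuotientGroup.quotientKerEquivOfSurjective chi chi_surjective).trans e.symm)⟩

theorem no_two_core (U : Subgroup LQ) (hU : U.Normal) (hp : IsPGroup 2 U) : U = ⊥ := by
  haveI := finite_Co0
  haveI : Fact (Nat.Prime 2) := ⟨Nat.prime_two⟩
  set U0 : Subgroup scalC := (U.comap rho).subgroupOf scalC with hU0
  have hU0n : U0.Normal := (hU.comap rho).subgroupOf scalC
  have hchi : U0 ≤ chi.ker := by
    refine image_bot hU0n ?_
    haveI := simple_Q112
    rcases (hU0n.map chi chi_surjective).eq_bot_or_eq_top with e | e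
    · rw [e, Subgroup.card_bot]; norm_num
    · exfalso
      have h7 : 7 ∣ Nat.card Q112 := by rw [card_Q112]; norm_num
      obtain ⟨y, hy⟩ := exists_prime_orderOf_dvd_card' 7 (hp := ⟨by norm_num⟩) h7
      obtain ⟨x, hx, rfl⟩ := e.ge (Subgroup.mem_top y)
      obtain ⟨n, hn⟩ := hp ⟨rho x.1, hx⟩
      have hn' : rho (x.1 ^ (2 ^ n)) = 1 := by rw [map_pow]; simpa using congrArg Subtype.val hn
      have h1 : chi x ^ (2 ^ n) = 1 := by
        rw [← map_pow]
        refine MonoidHom.mem_ker.1 (mem_chi_ker.2 (rho0_of_fix ?_))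
        exact base_trivial (show _ ∈ baseSub by simpa using (rho_eq_one_iff _).1 hn')
      have := orderOf_dvd_of_pow_eq_one h1
      rw [hy] at this
      exact absurd ((by norm_num : Nat.Prime 7).dvd_of_dvd_pow this) (by norm_num)
  have hdisj : U ⊓ MQ = ⊥ := by
    refine (Subgroup.eq_bot_iff_forall _).2 fun u hu => ?_
    obtain ⟨x, hx, rfl⟩ := hu.2
    have hN : rho x ∈ NQ := ⟨x, ⟨⟨x, hx⟩, hchi (show (⟨x, hx⟩ : scalC) ∈ U0 from hu.1), rfl⟩, rfl⟩
    have h3 := orderOf_dvd_natCard (⟨rho x, hN⟩ : NQ)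
    rw [card_NQ, Subgroup.orderOf_mk] at h3
    obtain ⟨n, hn⟩ := hp ⟨rho x, hu.1⟩
    have hn' : rho x ^ (2 ^ n) = 1 := by simpa using congrArg Subtype.val hn
    exact orderOf_eq_one_iff.1 (Nat.eq_one_of_dvd_coprimes
      (show Nat.Coprime 3 (2 ^ n) from (by norm_num : Nat.Coprime 3 2).pow_right n) h3 (orderOf_dvd_of_pow_eq_one hn'))
  refine (Subgroup.eq_bot_iff_forall _).2 fun u hu => ?_
  obtain ⟨x, rfl⟩ := rho_surjective u
  let wC : cenF := ⟨genE 2, mem_cenF.2 (genE_comm 2)⟩
  have hw : wC ∈ scalC := (genK 2).2.1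
  have hcm : rho x * rho wC * (rho x)⁻¹ * (rho wC)⁻¹ ∈ U ⊓ MQ := by
    refine Subgroup.mem_inf.2 ⟨?_, ?_⟩
    · have := mul_mem hu (hU.conj_mem _ (inv_mem hu) (rho wC))
      simpa [mul_assoc] using this
    · exact mul_mem (MQ_normal.conj_mem _ (Subgroup.mem_map_of_mem rho hw) (rho x))
        (inv_mem (Subgroup.mem_map_of_mem rho hw))
  rw [hdisj, Subgroup.mem_bot, ← map_mul, ← map_inv, ← map_mul, ← map_inv, ← map_mul, rho_eq_one_iff] at hcm
  have hs : x ∈ scalC := by
    refine ⟨mem_cenF.1 x.2, fun q hq => ?_⟩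
    have h := base_trivial hcm _ (fix_of_comm ((show Commute (genE 2) f0 from genE_comm 2).mul_left (mem_cenF.1 x.2)) hq)
    simp only [Subgroup.coe_mul, InvMemClass.coe_inv, qact_mul, show (wC : Co0) = genE 2 from rfl,
      qact_inv_self] at h
    exact h
  have hb : rho x ∈ U ⊓ MQ := ⟨hu, Subgroup.mem_map_of_mem rho hs⟩
  rwa [hdisj, Subgroup.mem_bot] at hb

end Cfsg.Lib.MonsterFischer
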