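import Cfsg.Agent.Lib.MonsterFischer.Count
import Cfsg.Agent.Lib.MonsterFischer.ChecksMaps
import Cfsg.Agent.Lib.SUSixU43.QSide

/-!
The centralizer of the automorphism of order three: modulo the centre and that automorphism, a group of order three
extended by the unitary group of dimension four on 112 sets of fixed classes, extended by an inverting element.
-/

set_option autoImplicit false
set_option maxRecDepth 100000
set_option Elab.async false

namespace Cfsg.Lib.MonsterFischer

open Cfsg Cfsg.Lib.Concrete Cfsg.Lib.MonsterLocal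
open Cfsg.Lib.MonsterSeven (bits code eqMod2 cls_eq_of_eqMod2 gpt_val)
open Cfsg.Lib.SUSixU43 (Q112 piG piG_rep genP card_Q112)

/-- The centralizer. -/
noncomputable abbrev cenF : Subgroup Co0 := Subgroup.centralizer ({f0} : Set Co0)

theorem mem_cenF {g : Co0} : g ∈ cenF ↔ Commute g f0 := Subgroup.mem_centralizer_singleton_iff

theorem mul_f0_ext {g a : Co0} (h : ∀ v : leechLattice, g • (f0 • v) = a • (g • v)) : g * f0 = a * g :=
  Subtype.ext (Equiv.ext fun v => h v)

theorem f0_coe (v : leechLattice) :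
    ((f0 • v : leechLattice) : GolayPt → ℤ) = fun q => (v : GolayPt → ℤ) (sigma.symm q) :=
  funext fun q => by simpa using f0_pow_smul 1 v q

theorem f0_mem_cenF : f0 ∈ cenF := mem_cenF.2 rfl

theorem gen_ok (k : Fin 4) : matOk (genMat k) = true := by
  fin_cases k
  exacts [gen_ok0, gen_ok1, gen_ok2, gen_ok3]

/-- A centralizing map. -/
noncomputable def genE (k : Fin 4) : Co0 := matCo0 (genMat k) (gen_ok k)

theorem matFun_twist (k : Fin 4) (x : GolayPt → ℤ) (p : GolayPt) :
    matFun (genMat k) (fun q => x (sigma.symm q)) p = matFun (genMat k) x (sigma.symm p) := by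
  have hs : matDot (genMat k) (fun q => x (sigma.symm q)) (gidx p) = matDot (genMat k) x (gidx (sigma.symm p)) := by
    have e : ∀ (i : Fin 24) (y : GolayPt → ℤ),
        matDot (genMat k) y i = ∑ q, matEntry (genMat k) i (gidx q) * y q := fun i y => by
      rw [matDot_eq, sum_gpt fun q => matEntry (genMat k) i (gidx q) * y q]
      simp only [gidx_gpt]
    rw [e, e, ← Equiv.sum_comp sigma]
    refine Finset.sum_congr rfl fun q _ => ?_
    have := gen_comm k (gidx (sigma.symm p)) (gidx q)
    rw [gpt_gidx, gpt_gidx, Equiv.apply_symm_apply] at this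
    rw [this, Equiv.symm_apply_apply]
  simp only [matFun, hs]

theorem genE_comm (k : Fin 4) : genE k * f0 = f0 * genE k := by
  refine mul_f0_ext fun v => Subtype.ext ?_
  rw [f0_coe]
  show matFun (genMat k) (f0 • v : leechLattice) = fun q => matFun (genMat k) v (sigma.symm q)
  rw [f0_coe]
  exact funext (matFun_twist k _)

theorem comb_basis : ∀ i : Fin 12, ∀ p : GolayPt, combV (2 ^ (i : ℕ)) p = basV i p := by decide +kernel

theorem genE_bas (k : Fin 4) (i : Fin 12) : qact (genE k) (cls (bas i)) = phi (bits 12 (imgCode k i)) := by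
  rw [qact_cls]
  refine cls_comb_eq ?_
  rw [genE, matCo0_apply, show ((bas i : leechLattice) : GolayPt → ℤ) = combV (2 ^ (i : ℕ)) from
    funext fun p => (comb_basis i p).symm]
  exact (gen_image k i).2

theorem foldr_bits (k c : ℕ) : ∀ l : List ℕ,
    bits 12 (l.foldr (fun i a => bif c.testBit i then Nat.xor (imgCode k i) a else a) 0) =
      (l.map fun i => if c.testBit i then bits 12 (imgCode k i) else 0).sum
  | [] => by funext i; simp [bits]
  | a :: l => by
    rw [List.foldr_cons, List.map_cons, List.sum_cons]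
    cases c.testBit a
    · simp only [cond_false, Bool.false_eq_true, ↓reduceIte, foldr_bits k c l, zero_add]
    · simp only [cond_true, ↓reduceIte, bits_xor, foldr_bits k c l]

theorem lin_bits (k c : ℕ) :
    bits 12 (linCode k c) = ∑ i : Fin 12, (bits 12 c i).val • bits 12 (imgCode k i) := by
  rw [linCode, foldr_bits]
  rw [show List.range 12 = (List.finRange 12).map Fin.val from rfl, List.map_map, ← Fin.sum_univ_def]
  refine Finset.sum_congr rfl fun i _ => ?_
  show (if c.testBit i.val then bits 12 (imgCode k i) else 0) = _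
  rw [show bits 12 c i = bif c.testBit i.val then (1 : ZMod 2) else 0 from rfl]
  cases c.testBit i.val <;> simp [ZMod.val_one]

theorem genE_phi (k : Fin 4) (c : ℕ) : qact (genE k) (phi (bits 12 c)) = phi (bits 12 (linCode k c)) := by
  rw [lin_bits, map_sum]
  conv_lhs => rw [phi, AddMonoidHom.finsetSum_apply, map_sum]
  refine Finset.sum_congr rfl fun i _ => ?_
  simp only [bitHom, AddMonoidHom.mk'_apply, map_nsmul, genE_bas]

theorem phi_bits_inj {a b : ℕ} (ha : a < 4096) (hb : b < 4096) (h : phi (bits 12 a) = phi (bits 12 b)) : a = b := by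
  have := congrArg code (phi_injective h)
  rwa [bits_code ⟨a, ha⟩, bits_code ⟨b, hb⟩] at this

theorem lin_lt (k : Fin 4) (c : ℕ) : linCode k c < 4096 := by
  have key : ∀ l : List ℕ, (∀ i ∈ l, i < 12) →
      l.foldr (fun i a => bif c.testBit i then Nat.xor (imgCode k i) a else a) 0 < 2 ^ 12 := by
    intro l
    induction l with
    | nil => simp
    | cons a l ih =>
      intro h
      rw [List.foldr_cons]
      cases c.testBit a
      · exact ih fun i hi => h i (List.mem_cons_of_mem _ hi)
      · exact Nat.xor_lt_two_pow (gen_image k ⟨a, h a (List.mem_cons_self ..)⟩).1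
          (ih fun i hi => h i (List.mem_cons_of_mem _ hi))
  exact key _ fun i hi => List.mem_range.1 hi

theorem frm_facts {i : Fin 112} : (frm i).length = 18 ∧ (frm i).Nodup ∧ (∀ c ∈ frm i, c < 4096) ∧
    ∀ j : Fin 112, i ≠ j → (frm i).headD 0 ∉ frm j := by
  have t := List.all_eq_true.1 frame_check i (List.mem_range.2 i.2)
  simp only [Bool.and_eq_true, beq_iff_eq, decide_eq_true_eq, List.all_eq_true, Bool.or_eq_true, Bool.not_eq_true',
    List.mem_range, List.contains_eq_mem, decide_eq_false_iff_not] at t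
  exact ⟨t.1.1.1, t.1.1.2, t.1.2, fun j hne => (t.2 j j.2).resolve_left fun e => hne (Fin.ext e)⟩

/-- A set of classes. -/
noncomputable def frmSet (i : Fin 112) : Set V := (fun c => phi (bits 12 c)) '' ((frm i).toFinset : Set ℕ)

theorem mem_frmSet {i : Fin 112} {c : ℕ} (h : c ∈ frm i) : phi (bits 12 c) ∈ frmSet i :=
  ⟨c, List.mem_toFinset.2 h, rfl⟩

theorem ncard_frmSet (i : Fin 112) : (frmSet i).ncard = 18 := by
  rw [frmSet, Set.InjOn.ncard_image, Set.ncard_coe_finset, List.toFinset_card_of_nodup frm_facts.2.1, frm_facts.1]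
  intro a ha b hb h
  exact phi_bits_inj (frm_facts.2.2.1 a (List.mem_toFinset.1 ha)) (frm_facts.2.2.1 b (List.mem_toFinset.1 hb)) h

theorem frmSet_finite (i : Fin 112) : (frmSet i).Finite := (Finset.finite_toSet _).image _

theorem frmSet_fix {i : Fin 112} {q : V} (h : q ∈ frmSet i) : q ∈ fixSet f0 := by
  obtain ⟨c, -, rfl⟩ := h
  exact phi_fixed _

theorem frmSet_injective : Function.Injective frmSet := by
  intro i j h
  by_contra hne
  have hc : (frm i).headD 0 ∈ frm i := by
    have hl := (frm_facts (i := i)).1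
    cases hf : frm i with
    | nil => simp [hf] at hl
    | cons a l => simp
  obtain ⟨d, hd, e⟩ := h ▸ mem_frmSet hc
  have hd' := List.mem_toFinset.1 hd
  rw [phi_bits_inj (frm_facts.2.2.1 d hd') (frm_facts.2.2.1 _ hc) e] at hd'
  exact frm_facts.2.2.2 j hne hd'

/-- The permutation of the sets induced by one of the first three maps. -/
noncomputable def frmP (k : Fin 3) : Equiv.Perm (Fin 112) := if k.val < 2 then piG k.val else 1

theorem frmP_val (k : Fin 3) (i : Fin 112) : ((frmP k i : Fin 112) : ℕ) = frmImg k i := by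
  fin_cases k
  · exact piG_rep (k := 0) (by norm_num) i
  · exact piG_rep (k := 1) (by norm_num) i
  · rfl

theorem genE_frame (k : Fin 3) (i : Fin 112) :
    qact (genE ⟨k.val, by omega⟩) '' frmSet i = frmSet (frmP k i) := by
  refine Set.eq_of_subset_of_ncard_le ?_ ?_ (frmSet_finite _)
  · rintro _ ⟨_, ⟨c, hc, rfl⟩, rfl⟩
    have hc' := List.mem_toFinset.1 hc
    have t := List.all_eq_true.1 (gen_frame k i) c hc'
    rw [← frmP_val k i, List.contains_iff_mem] at t
    show qact (genE ⟨k.val, _⟩) (phi (bits 12 c)) ∈ _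
    rw [genE_phi]
    exact mem_frmSet t
  · rw [Set.ncard_image_of_injective _ (qact_injective _), ncard_frmSet, ncard_frmSet]

/-- The scalar of order three. -/
noncomputable def wE : Co0 := genE 2

theorem fix_of_comm {g : Co0} (hg : Commute g f0) {q : V} (hq : q ∈ fixSet f0) : qact g q ∈ fixSet f0 := by
  show qact f0 (qact g q) = qact g q
  rw [← qact_mul, ← hg.eq, qact_mul, show qact f0 q = q from hq]

/-- The centralizing maps commuting with the scalar on the fixed classes. -/
noncomputable def scalStab : Subgroup Co0 where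
  carrier := {g | Commute g f0 ∧ ∀ q ∈ fixSet f0, qact g (qact wE q) = qact wE (qact g q)}
  one_mem' := ⟨Commute.one_left _, fun q _ => by rw [qact_one, qact_one]⟩
  mul_mem' := fun {g h} ⟨hg, a⟩ ⟨hh, b⟩ => ⟨hg.mul_left hh, fun q hq => by
    rw [qact_mul, b q hq, a _ (fix_of_comm hh hq), qact_mul]⟩
  inv_mem' := fun {g} ⟨hg, a⟩ => ⟨hg.inv_left, fun q hq => by
    have h := a _ (fix_of_comm hg.inv_left hq)
    rw [← qact_mul g g⁻¹ q, mul_inv_cancel, qact_one] at h
    conv_lhs => rw [← h, qact_inv_self]⟩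

/-- Those that also permute the sets. -/
noncomputable def frmStab : Subgroup Co0 where
  carrier := {g | g ∈ scalStab ∧ ∃ π : Equiv.Perm (Fin 112), ∀ i, qact g '' frmSet i = frmSet (π i)}
  one_mem' := ⟨one_mem _, 1, fun i => by
    rw [show (qact (1 : Co0) : V → V) = id from funext qact_one, Set.image_id]; rfl⟩
  mul_mem' := fun {g h} ⟨hg, π, hπ⟩ ⟨hh, π', hπ'⟩ => ⟨mul_mem hg hh, π * π', fun i => by
    rw [show (qact (g * h) : V → V) = qact g ∘ qact h from funext (qact_mul g h), Set.image_comp, hπ', hπ]; rfl⟩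
  inv_mem' := fun {g} ⟨hg, π, hπ⟩ => ⟨inv_mem hg, π⁻¹, fun i => by
    have h := hπ (π⁻¹ i)
    rw [show π (π⁻¹ i) = i from π.apply_symm_apply i] at h
    rw [← h, ← Set.image_comp, show (qact g⁻¹ : V → V) ∘ qact g = id from funext (qact_inv_self g), Set.image_id]⟩

/-- The induced permutation of the sets. -/
noncomputable def rho0 : frmStab →* Equiv.Perm (Fin 112) :=
  MonoidHom.mk' (fun g => g.2.2.choose) fun g h => Equiv.ext fun i => frmSet_injective (by
    rw [← (g * h).2.2.choose_spec i, Equiv.Perm.mul_apply, ← g.2.2.choose_spec, ← h.2.2.choose_spec,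
      ← Set.image_comp, Subgroup.coe_mul,
      show (qact (g.1 * h.1) : V → V) = qact g.1 ∘ qact h.1 from funext (qact_mul g.1 h.1)])

theorem rho0_eq {g : frmStab} {π : Equiv.Perm (Fin 112)} (h : ∀ i, qact g.1 '' frmSet i = frmSet (π i)) :
    rho0 g = π :=
  Equiv.ext fun i => frmSet_injective ((g.2.2.choose_spec i).symm.trans (h i))

theorem rho0_of_fix {g : frmStab} (h : ∀ q ∈ fixSet f0, qact g.1 q = q) : rho0 g = 1 :=
  rho0_eq fun i => by
    rw [Set.image_congr fun q hq => h q (frmSet_fix hq), Set.image_id']; rfl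

theorem comm_fix_of_basis {a b : Co0}
    (h : ∀ i : Fin 12, qact a (qact b (phi (bits 12 (2 ^ (i : ℕ))))) = qact b (qact a (phi (bits 12 (2 ^ (i : ℕ)))))) :
    ∀ q ∈ fixSet f0, qact a (qact b q) = qact b (qact a q) := by
  intro q hq
  rw [fixSet_eq] at hq
  obtain ⟨v, rfl⟩ := hq
  have hb : ∀ i : Fin 12, phi (bits 12 (2 ^ (i : ℕ))) = cls (bas i) := fun i => by
    rw [phi_bits]
    exact congrArg cls (Subtype.ext (by rw [combL_coe]; exact funext (comb_basis i)))
  simp only [phi, AddMonoidHom.finsetSum_apply, bitHom, AddMonoidHom.mk'_apply, map_sum, map_nsmul]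
  refine Finset.sum_congr rfl fun i _ => ?_
  rw [← hb i, h i]

/-- One of the first three maps, in the subgroup. -/
noncomputable def genK (k : Fin 3) : frmStab :=
  ⟨genE ⟨k.val, by omega⟩, ⟨genE_comm _, comm_fix_of_basis fun i => by
    show qact (genE ⟨k.val, _⟩) (qact (genE 2) _) = qact (genE 2) (qact (genE ⟨k.val, _⟩) _)
    rw [genE_phi, genE_phi, genE_phi, genE_phi]
    exact congrArg (fun c => phi (bits 12 c)) (w_comm k i)⟩, frmP k, genE_frame k⟩

theorem rho0_genK (k : Fin 3) : rho0 (genK k) = frmP k := rho0_eq (genE_frame k)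

theorem Q112_le : Q112 ≤ rho0.range := by
  rw [Q112, Subgroup.closure_le]
  rintro _ (rfl | rfl)
  · exact ⟨genK 0, rho0_genK 0⟩
  · exact ⟨genK 1, rho0_genK 1⟩

theorem inv_not_scal : genE 3 ∈ cenF ∧ genE 3 ∉ scalStab := by
  refine ⟨mem_cenF.2 (genE_comm 3), fun h => ?_⟩
  have h1 := h.2 _ (phi_fixed (bits 12 (2 ^ noncommIdx)))
  rw [wE, genE_phi, genE_phi, genE_phi, genE_phi] at h1
  exact w_moves.2.2.2 (phi_bits_inj (lin_lt 3 _) (lin_lt 2 _) h1)

/-- The group of order six fixing all fixed classes. -/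
noncomputable abbrev baseSub : Subgroup Co0 := Subgroup.center Co0 ⊔ Subgroup.zpowers f0

theorem base_trivial {g : Co0} (hg : g ∈ baseSub) : ∀ q ∈ fixSet f0, qact g q = q := by
  intro q hq
  let S : Subgroup Co0 :=
    { carrier := {x | qact x q = q}
      one_mem' := qact_one _
      mul_mem' := fun {x y} hx hy => by
        show qact (x * y) q = q
        rw [qact_mul, show qact y q = q from hy, show qact x q = q from hx]
      inv_mem' := fun {x} hx => by
        show qact x⁻¹ q = q
        conv_lhs => rw [← show qact x q = q from hx, qact_inv_self] }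
  exact (sup_le (fun x hx => qact_center hx _) (Subgroup.zpowers_le.2 hq) : baseSub ≤ S) hg

theorem base_le_cenF : baseSub ≤ cenF :=
  sup_le (Subgroup.center_le_centralizer _) (Subgroup.zpowers_le.2 f0_mem_cenF)

theorem scal_of_fix {g : Co0} (hc : Commute g f0) (h : ∀ q ∈ fixSet f0, qact g q = q) : g ∈ scalStab :=
  ⟨hc, fun q hq => by rw [h q hq, h _ (fix_of_comm (show Commute wE f0 from genE_comm 2) hq)]⟩

theorem base_le_stab : baseSub ≤ frmStab := fun g hg =>
  ⟨scal_of_fix (mem_cenF.1 (base_le_cenF hg)) (base_trivial hg), 1, fun i => by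
    rw [Set.image_congr fun q hq => base_trivial hg q (frmSet_fix hq), Set.image_id']; rfl⟩

theorem f0_ne_one : f0 ≠ 1 := by
  intro h
  have e := crossPerm_permHom ⟨sigma, sigma_mem⟩
  have e1 : (⟨permHom ⟨sigma, sigma_mem⟩, permHom_mem _⟩ : crossStab) = 1 := Subtype.ext h
  rw [e1, map_one] at e
  have h2 : sigma (gpt (Fin.ofNat 24 swapWitness)) ≠ gpt (Fin.ofNat 24 swapWitness) := by decide +kernel
  exact h2 (by rw [show sigma = 1 from congrArg Subtype.val e.symm]; rfl)

theorem six_le_card_base : 6 ≤ Nat.card baseSub := by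
  haveI := finite_Co0
  haveI : Fact (Nat.Prime 3) := ⟨Nat.prime_three⟩
  have h2 := Subgroup.card_dvd_of_le (le_sup_left : Subgroup.center Co0 ≤ baseSub)
  have h3 := Subgroup.card_dvd_of_le (le_sup_right : Subgroup.zpowers f0 ≤ baseSub)
  rw [card_center_Co0] at h2
  rw [Nat.card_zpowers, orderOf_eq_prime f0_pow_three f0_ne_one] at h3
  exact Nat.le_of_dvd Nat.card_pos (Nat.Coprime.mul_dvd_of_dvd_of_dvd (by norm_num : Nat.Coprime 2 3) h2 h3)

/-- The base group inside the kernel. -/
noncomputable abbrev baseKer : Subgroup rho0.ker := (baseSub.subgroupOf frmStab).subgroupOf rho0.ker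

theorem wK_mem (j : ℕ) : genK 2 ^ j ∈ rho0.ker := by
  rw [MonoidHom.mem_ker, map_pow, rho0_genK]
  exact one_pow _

/-- The three cosets in the kernel. -/
noncomputable def wCoset (j : Fin 3) : rho0.ker ⧸ baseKer := QuotientGroup.mk ⟨genK 2 ^ j.val, wK_mem _⟩

theorem wCoset_injective : Function.Injective wCoset := by
  have key : ∀ d : ℕ, 0 < d → d < 3 → (genE 2) ^ d ∉ baseSub := by
    intro d hd hd3 hmem
    have h := base_trivial hmem _ (phi_fixed (bits 12 1))
    interval_cases d
    · rw [pow_one, genE_phi] at h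
      exact w_moves.1 (phi_bits_inj (lin_lt 2 _) (by norm_num) h)
    · rw [pow_two, qact_mul, genE_phi, genE_phi] at h
      exact w_moves.2.1 (phi_bits_inj (lin_lt 2 _) (by norm_num) h)
  intro a b h
  by_contra hne
  rw [wCoset, wCoset, QuotientGroup.eq] at h
  simp only [baseKer, Subgroup.mem_subgroupOf, Subgroup.coe_mul, InvMemClass.coe_inv, SubmonoidClass.coe_pow] at h
  have hv : a.val ≠ b.val := fun e => hne (Fin.ext e)
  have ha := a.2
  have hb := b.2
  rcases Nat.lt_or_gt_of_ne hv with hlt | hlt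
  · obtain ⟨d, hd⟩ := Nat.exists_eq_add_of_lt hlt
    rw [hd, show a.val + d + 1 = a.val + (d + 1) by omega, pow_add, inv_mul_cancel_left] at h
    exact key (d + 1) (by omega) (by omega) h
  · obtain ⟨d, hd⟩ := Nat.exists_eq_add_of_lt hlt
    have h' := inv_mem h
    rw [mul_inv_rev, inv_inv, hd, show b.val + d + 1 = b.val + (d + 1) by omega, pow_add,
      inv_mul_cancel_left] at h'
    exact key (d + 1) (by omega) (by omega) h'

theorem card_baseKer : 6 ≤ Nat.card baseKer := by
  have hle : baseSub.subgroupOf frmStab ≤ rho0.ker := fun g hg => rho0_of_fix (base_trivial hg)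
  rw [Nat.card_congr (Subgroup.subgroupOfEquivOfLe hle).toEquiv,
    Nat.card_congr (Subgroup.subgroupOfEquivOfLe base_le_stab).toEquiv]
  exact six_le_card_base

theorem cross_rep (g : crossStab.subgroupOf cenF) : ∃ x : cenP × {m : ℕ // m ∈ fixCodes.toFinset},
    ∀ v : leechLattice, ((g.1.1 • v : leechLattice) : GolayPt → ℤ) = signedPerm x.1.1.1 (mset x.2.1) v := by
  obtain ⟨⟨σ, hσ⟩, c, hcc, hv⟩ := crossStab_monomial ⟨g.1.1, Subgroup.mem_subgroupOf.1 g.2⟩
  obtain ⟨m, hm, rfl⟩ := mem_supports_iff.1 hcc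
  have hcomm : Commute g.1.1 f0 := mem_cenF.1 g.1.2
  have key : ∀ p : GolayPt, σ (sigma p) = sigma (σ p) ∧ (sigma (σ p) ∈ mset m ↔ σ p ∈ mset m) := by
    intro p
    have h1 := congrArg (fun y : leechLattice => (y : GolayPt → ℤ))
      (show g.1.1 • (f0 • e8 p) = f0 • (g.1.1 • e8 p) by rw [← mul_smul, hcomm.eq, mul_smul])
    simp only [hv, f0_coe] at h1
    have h2 := congrFun h1 (σ (sigma p))
    simp only [signedPerm, Equiv.symm_apply_apply, e8, Pi.single_eq_same] at h2
    have heq : σ (sigma p) = sigma (σ p) := by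
      by_contra hne
      rw [Pi.single_eq_of_ne (show σ.symm (sigma.symm (σ (sigma p))) ≠ p from fun e =>
        hne ((Equiv.symm_apply_eq _).1 ((Equiv.symm_apply_eq _).1 e |>.symm ▸ rfl)))] at h2
      split at h2 <;> omega
    refine ⟨heq, ?_⟩
    rw [heq, Equiv.symm_apply_apply, Equiv.symm_apply_apply, Pi.single_eq_same] at h2
    by_cases a : sigma (σ p) ∈ mset m <;> by_cases b : σ p ∈ mset m <;>
      simp only [a, b, if_true, if_false] at h2 ⊢ <;> omega
  have hmc : m ∈ fixCodes := by
    have t := List.all_eq_true.1 fixCodes_check.2 m hm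
    have hall : bits24.all (fun i => m.testBit (pget (sPow 1) i) == m.testBit i) = true := by
      refine List.all_eq_true.2 fun i hi => ?_
      have h1 := (key (σ.symm (gpt ⟨i, mem_bits24.1 hi⟩))).2
      rw [Equiv.apply_symm_apply, mem_mset, mem_mset, rep_sigma, gidx_gpt] at h1
      rw [beq_iff_eq, Bool.eq_iff_iff]
      exact h1
    rw [hall] at t
    simpa using t
  exact ⟨(⟨⟨σ, hσ⟩, Subgroup.mem_centralizer_singleton_iff.2 (Subtype.ext (Equiv.ext fun p => (key p).1))⟩,
    ⟨m, List.mem_toFinset.2 hmc⟩), hv⟩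

theorem card_cross_cen : Nat.card (crossStab.subgroupOf cenF) ≤ 1080 * 64 := by
  refine (Nat.card_le_card_of_injective (fun g => (cross_rep g).choose) fun g g' h => ?_).trans ?_
  · refine Subtype.ext (Subtype.ext (Subtype.ext (Equiv.ext fun v => Subtype.ext ?_)))
    show ((g.1.1 • v : leechLattice) : GolayPt → ℤ) = (g'.1.1 • v : leechLattice)
    rw [(cross_rep g).choose_spec, (cross_rep g').choose_spec]
    simp only at h
    rw [h]
  · rw [Nat.card_prod, Nat.card_eq_finsetCard]
    exact Nat.mul_le_mul card_cenP ((List.toFinset_card_le _).trans fixCodes_check.1.le)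

theorem top_sixty : cls top ∈ sixtySet := ⟨top, (stdCross_subset (e8_mem_stdCross none)).2, rfl⟩

theorem card_cenF : Nat.card cenF ≤ 1701 * (1080 * 64) := by
  haveI := finite_Co0
  refine (Cfsg.Lib.MonsterThree.card_le_mul (crossStab.subgroupOf cenF) (fun g => qact g.1 (cls top))
    (fixSet f0 ∩ sixtySet) ?_ (fun g => ?_) fun g g' h => ?_).trans
    (Nat.mul_le_mul ncard_fix_sixty_le card_cross_cen)
  · rw [fixSet_eq]; exact (Set.finite_range _).subset Set.inter_subset_left
  · refine ⟨fix_of_comm (mem_cenF.1 g.2) (mem_crossStab_iff_cls.1 f0_mem_crossStab), ?_⟩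
    obtain ⟨v, hv, e⟩ := top_sixty
    refine ⟨g.1 • v, (co0_sqNorm g.1 v).trans hv, ?_⟩
    rw [← e]; rfl
  · refine Subgroup.mem_subgroupOf.2 (mem_crossStab_iff_cls.2 ?_)
    show qact (g.1⁻¹ * g'.1) (cls top) = cls top
    rw [qact_mul, show qact g'.1 (cls top) = qact g.1 (cls top) from h.symm, qact_inv_self]

theorem stab_le : frmStab ≤ scalStab := fun _ h => h.1

theorem scal_le : scalStab ≤ cenF := fun _ h => mem_cenF.2 h.1

theorem structure_facts : frmStab = scalStab ∧ rho0.range = Q112 ∧ Nat.card rho0.ker = 18 ∧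
    Nat.card baseKer = 6 ∧ Function.Bijective wCoset ∧ (scalStab.subgroupOf cenF).index = 2 := by
  haveI := finite_Co0
  have hw := Nat.card_le_card_of_injective wCoset wCoset_injective
  rw [Nat.card_fin] at hw
  have hb := card_baseKer
  have h1 := Subgroup.card_mul_index baseKer
  rw [Subgroup.index] at h1
  have h2 : Nat.card rho0.ker * Nat.card rho0.range = Nat.card frmStab := by
    rw [← Subgroup.index_ker, Subgroup.card_mul_index]
  have h3 := Subgroup.card_le_of_le Q112_le
  rw [card_Q112] at h3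
  have h4 := Subgroup.card_le_of_le stab_le
  have h5 := Subgroup.card_mul_index (scalStab.subgroupOf cenF)
  rw [Nat.card_congr (Subgroup.subgroupOfEquivOfLe scal_le).toEquiv] at h5
  have h6 : 2 ≤ (scalStab.subgroupOf cenF).index := by
    have hn : (scalStab.subgroupOf cenF).index ≠ 1 := fun e =>
      inv_not_scal.2 (Subgroup.mem_subgroupOf.1 ((Subgroup.index_eq_one.1 e).symm ▸ Subgroup.mem_top
        (⟨genE 3, inv_not_scal.1⟩ : cenF)))
    have := Subgroup.index_ne_zero_of_finite (H := scalStab.subgroupOf cenF)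
    omega
  have h7 := card_cenF
  have eR : Nat.card rho0.range = 3265920 := by nlinarith
  have eK : Nat.card rho0.ker = 18 := by nlinarith
  have eB : Nat.card baseKer = 6 := by nlinarith
  have eW : Nat.card (rho0.ker ⧸ baseKer) = 3 := by nlinarith
  have eS : Nat.card scalStab = 58786560 := by nlinarith
  have eI : (scalStab.subgroupOf cenF).index = 2 := by nlinarith
  refine ⟨Subgroup.eq_of_le_of_card_ge stab_le (by rw [← h2, eR, eK, eS]),
    (Subgroup.eq_of_le_of_card_ge Q112_le (by rw [eR, card_Q112])).symm, eK, eB,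
    (Nat.bijective_iff_injective_and_card _).2 ⟨wCoset_injective, by rw [Nat.card_fin, eW]⟩, eI⟩

theorem scal_ker {g : cenF} (hg : g.1 ∈ scalStab) (h : rho0 ⟨g.1, structure_facts.1.ge hg⟩ = 1) :
    ∃ j : Fin 3, (genE 2 ^ j.val)⁻¹ * g.1 ∈ baseSub := by
  obtain ⟨j, hj⟩ := structure_facts.2.2.2.2.1.2 (QuotientGroup.mk ⟨_, MonoidHom.mem_ker.2 h⟩)
  rw [wCoset, QuotientGroup.eq] at hj
  simp only [baseKer, Subgroup.mem_subgroupOf, Subgroup.coe_mul, InvMemClass.coe_inv, SubmonoidClass.coe_pow] at hj
  exact ⟨j, hj⟩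

theorem base_of_fix {g : cenF} (h : ∀ q ∈ fixSet f0, qact g.1 q = q) : g.1 ∈ baseSub := by
  have hs := scal_of_fix (mem_cenF.1 g.2) h
  obtain ⟨j, hj⟩ := scal_ker hs (rho0_of_fix (g := ⟨g.1, structure_facts.1.ge hs⟩) h)
  have ht := base_trivial hj _ (phi_fixed (bits 12 1))
  rw [qact_mul, h _ (phi_fixed _)] at ht
  have h2 : qact (genE 2 ^ j.val) (phi (bits 12 1)) = phi (bits 12 1) := by
    conv_lhs => rw [← ht, ← qact_mul, mul_inv_cancel, qact_one]
  fin_cases j
  · simpa using hj
  · simp only [pow_one, genE_phi] at h2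
    exact absurd (phi_bits_inj (lin_lt 2 _) (by norm_num) h2) w_moves.1
  · simp only [pow_two, qact_mul, genE_phi] at h2
    exact absurd (phi_bits_inj (lin_lt 2 _) (by norm_num) h2) w_moves.2.1

end Cfsg.Lib.MonsterFischer
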